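/-
A group with a central involution t, a subgroup of index two containing the centraliser of an element u that
is quasisimple with quotient PSU(6,2) over the four group of t and u: the group modulo t is Aut(Fi22).

* `fi22_main`
-/
import Cfsg.Agent.EqLemmas
import Cfsg.Agent.S1713
import Cfsg.Agent.S1696
import Cfsg.Agent.Lib.Fi22Aut.Outer
import Cfsg.Agent.Lib.Components.Basic
import Cfsg.Agent.Lib.Components.BBalance
import Cfsg.Agent.Lib.Components.GenFitting
import Cfsg.Agent.Lib.Cores.Fitting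

set_option autoImplicit false
set_option maxRecDepth 100000

namespace Cfsg.Agent.U62Fischer

open Subgroup

universe u

theorem mem_zpowers_two' {Y : Type u} [Group Y] {t : Y} (ht : t * t = 1) {g : Y} (h : g ∈ zpowers t) :
    g = 1 ∨ g = t := by
  obtain ⟨i, rfl⟩ := mem_zpowers_iff.1 h
  rcases Int.emod_two_eq_zero_or_one i with hi | hi
  · left
    rw [show i = 2 * (i / 2) by omega, zpow_mul, zpow_two, ht, one_zpow]
  · right
    rw [show i = 2 * (i / 2) + 1 by omega, zpow_add, zpow_mul, zpow_two, ht, one_zpow, one_mul, zpow_one]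

/-- Fi22 and its automorphism group. -/
theorem fi22_facts : IsSimpleGroup Cfsg.Spor.Fi22 ∧ Nat.card Cfsg.Spor.Fi22 = 64561751654400 ∧
    Nat.card (MulAut Cfsg.Spor.Fi22) = 2 * 64561751654400 := by
  obtain ⟨hs, hc⟩ := Cfsg.Agent.S1696.result
  refine ⟨hs, hc, ?_⟩
  have hout : Nat.card (Cfsg.Out Cfsg.Spor.Fi22) = 2 := Cfsg.Agent.Fi22Aut.card_out
  have hinj : Function.Injective (MulAut.conj : Cfsg.Spor.Fi22 →* MulAut Cfsg.Spor.Fi22) := by
    rw [← MonoidHom.ker_eq_bot_iff]
    refine ((MulAut.conj : Cfsg.Spor.Fi22 →* MulAut Cfsg.Spor.Fi22).normal_ker.eq_bot_or_eq_top).resolve_right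
      fun h => ?_
    letI : CommGroup Cfsg.Spor.Fi22 := { (inferInstance : Group Cfsg.Spor.Fi22) with
      mul_comm := fun a b => by
        have : MulAut.conj a = 1 := MonoidHom.mem_ker.1 (h ▸ mem_top a)
        have e : a * b * a⁻¹ = b := DFunLike.congr_fun this b
        exact mul_inv_eq_iff_eq_mul.1 e }
    have hp := @IsSimpleGroup.prime_card Cfsg.Spor.Fi22 _ hs
    rw [hc] at hp
    exact absurd hp (Nat.not_prime_mul (a := 2) (b := 32280875827200) (by norm_num) (by norm_num))
  rw [card_eq_card_quotient_mul_card_subgroup (Cfsg.Inn Cfsg.Spor.Fi22),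
    ← Nat.card_congr (MonoidHom.ofInjective hinj).toEquiv, hc]
  exact congrArg (· * 64561751654400) hout

variable {Y : Type u} [Group Y] [Finite Y]

set_option maxHeartbeats 1000000 in
theorem fi22_main (t u : Y) (htc : t ∈ center Y) (ht2 : t * t = 1) (ht1 : t ≠ 1) (hu2 : u * u = 1)
    (hu : u ∉ zpowers t) (Y0 : Subgroup Y) (hidx : Y0.index = 2)
    (hle : centralizer ({u} : Set Y) ≤ Y0) (hq : Cfsg.IsQuasisimple ↥(centralizer ({u} : Set Y)))
    (K : Type) [Field K] [Fintype K] (hK : Fintype.card K = 4)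
    (ψ : ↥(centralizer ({u} : Set Y)) →* Cfsg.PSU 6 K 2) (hψ : Function.Surjective ψ)
    (hker : ∀ g : ↥(centralizer ({u} : Set Y)), ψ g = 1 ↔
      ((g : Y) = 1 ∨ (g : Y) = t ∨ (g : Y) = u ∨ (g : Y) = t * u))
    (hno : ∀ g ∈ Y0, g * u * g⁻¹ ≠ t * u)
    (hnwc : ∃ g ∈ Y0, Commute (g * u * g⁻¹) u ∧ g * u * g⁻¹ ≠ u ∧ g * u * g⁻¹ ≠ t * u)
    [hn : (zpowers t).Normal] :
    Cfsg.generalizedFittingSubgroup Y = Y0 ∧ Cfsg.IsQuasisimple ↥Y0 ∧ t ∈ Y0 ∧
      Nonempty (Y ⧸ zpowers t ≃* MulAut Cfsg.Spor.Fi22) := by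
  classical
  haveI hY0 : Y0.Normal := normal_of_index_eq_two hidx
  have htu : t * u = u * t := (mem_center_iff.1 htc u).symm
  have huC : u ∈ centralizer ({u} : Set Y) := mem_centralizer_singleton_iff.2 rfl
  have htC : t ∈ centralizer ({u} : Set Y) := mem_centralizer_singleton_iff.2 htu
  have htY : t ∈ Y0 := hle htC
  set T0 : Subgroup ↥Y0 := (zpowers t).subgroupOf Y0 with hT0
  have hTc : ∀ g : ↥Y0, (g : Y) ∈ zpowers t → g ∈ center ↥Y0 := fun g hg => mem_center_iff.2 fun k =>
    Subtype.ext (mem_center_iff.1 (zpowers_le.2 htc hg) k)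
  haveI : T0.Normal := ⟨fun n hn g => by rwa [mem_center_iff.1 (hTc n hn) g, mul_inv_cancel_right]⟩
  set π := QuotientGroup.mk' T0
  have hπ : Function.Surjective π := QuotientGroup.mk'_surjective T0
  have hπ1 : ∀ g : ↥Y0, π g = 1 ↔ ((g : Y) = 1 ∨ (g : Y) = t) := fun g => by
    rw [← MonoidHom.mem_ker, QuotientGroup.ker_mk', mem_subgroupOf]
    exact ⟨mem_zpowers_two' ht2, by rintro (h | h) <;> rw [h]; exacts [one_mem _, mem_zpowers t]⟩
  set uY : ↥Y0 := ⟨u, hle huC⟩
  set d := π uY with hd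
  have hd1 : d ≠ 1 := fun h => by
    rcases (hπ1 uY).1 h with e | e
    exacts [hu (by rw [show u = 1 from e]; exact one_mem _), hu (by rw [show u = t from e]; exact mem_zpowers t)]
  have hd2 : orderOf d = 2 := orderOf_eq_prime (by
    rw [pow_two, hd, ← map_mul, show uY * uY = 1 from Subtype.ext hu2, map_one]) hd1
  have hsame : ∀ g : ↥Y0, π g = d → (g : Y) = u ∨ (g : Y) = t * u := by
    intro g h
    have h1 : π (g * uY⁻¹) = 1 := by rw [map_mul, map_inv, h, mul_inv_cancel]
    rcases (hπ1 _).1 h1 with e | e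
    · exact Or.inl (mul_inv_eq_one.1 e)
    · exact Or.inr (mul_inv_eq_iff_eq_mul.1 e)
  -- the centraliser of d
  let φ : ↥(centralizer ({u} : Set Y)) →* ↥(centralizer ({d} : Set (↥Y0 ⧸ T0))) :=
    (π.comp (inclusion hle)).codRestrict _ fun g => mem_centralizer_singleton_iff.2 (by
      show π _ * d = d * π _
      rw [hd, ← map_mul, ← map_mul]
      exact congrArg π (Subtype.ext (mem_centralizer_singleton_iff.1 g.2)))
  have hφ : Function.Surjective φ := by
    rintro ⟨q, hq⟩
    obtain ⟨g, rfl⟩ := hπ q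
    have h : π (g * uY * g⁻¹) = d := by
      rw [map_mul, map_mul, map_inv]
      exact mul_inv_eq_iff_eq_mul.2 (mem_centralizer_singleton_iff.1 hq)
    have hgu : (g : Y) * u * (g : Y)⁻¹ = u := (hsame _ h).resolve_right (hno g g.2)
    exact ⟨⟨g, mem_centralizer_singleton_iff.2 (mul_inv_eq_iff_eq_mul.1 hgu)⟩, Subtype.ext rfl⟩
  haveI : Nontrivial ↥(centralizer ({d} : Set (↥Y0 ⧸ T0))) :=
    ⟨⟨⟨d, mem_centralizer_singleton_iff.2 rfl⟩, 1, fun e => hd1 (congrArg Subtype.val e)⟩⟩
  have hqd : Cfsg.IsQuasisimple ↥(centralizer ({d} : Set (↥Y0 ⧸ T0))) :=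
    Components.IsQuasisimple.of_surjective hq φ hφ
  haveI : ((zpowers d).subgroupOf (centralizer ({d} : Set (↥Y0 ⧸ T0)))).Normal := ⟨fun n hn g => by
    obtain ⟨i, hi⟩ := mem_zpowers_iff.1 (mem_subgroupOf.1 hn)
    have hc : Commute (g : ↥Y0 ⧸ T0) (n : ↥Y0 ⧸ T0) := by
      rw [← hi]; exact Commute.zpow_right (mem_centralizer_singleton_iff.1 g.2) i
    rwa [show g * n * g⁻¹ = n from Subtype.ext (mul_inv_eq_iff_eq_mul.2 hc.eq)]⟩
  have hφ1 : φ.ker ≤ ψ.ker := fun g hg => by
    rw [MonoidHom.mem_ker, hker]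
    rcases (hπ1 _).1 (congrArg Subtype.val (MonoidHom.mem_ker.1 hg)) with e | e
    exacts [Or.inl e, Or.inr (Or.inl e)]
  let ψ' : ↥(centralizer ({d} : Set (↥Y0 ⧸ T0))) →* Cfsg.PSU 6 K 2 := φ.liftOfSurjective hφ ⟨ψ, hφ1⟩
  have hψ' : ∀ g, ψ' (φ g) = ψ g := fun g =>
    MonoidHom.liftOfRightInverse_comp_apply φ _ (Function.rightInverse_surjInv hφ) ⟨ψ, hφ1⟩ g
  have hker' : ψ'.ker = (zpowers d).subgroupOf (centralizer ({d} : Set (↥Y0 ⧸ T0))) := by
    ext c
    obtain ⟨g, rfl⟩ := hφ c
    rw [MonoidHom.mem_ker, hψ', hker, mem_subgroupOf]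
    have hd2' : d * d = 1 := by rw [← pow_two, ← hd2, pow_orderOf_eq_one]
    constructor
    · intro h
      rcases h with e | e | e | e
      · rw [show ((φ g : ↥(centralizer ({d} : Set (↥Y0 ⧸ T0)))) : ↥Y0 ⧸ T0) = 1 from (hπ1 _).2 (Or.inl e)]
        exact one_mem _
      · rw [show ((φ g : ↥(centralizer ({d} : Set (↥Y0 ⧸ T0)))) : ↥Y0 ⧸ T0) = 1 from (hπ1 _).2 (Or.inr e)]
        exact one_mem _
      · rw [show ((φ g : ↥(centralizer ({d} : Set (↥Y0 ⧸ T0)))) : ↥Y0 ⧸ T0) = d from
          congrArg π (Subtype.ext e)]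
        exact mem_zpowers d
      · rw [show ((φ g : ↥(centralizer ({d} : Set (↥Y0 ⧸ T0)))) : ↥Y0 ⧸ T0) = π (⟨t, htY⟩ * uY) from
          congrArg π (Subtype.ext e), map_mul, (hπ1 ⟨t, htY⟩).2 (Or.inr rfl), one_mul]
        exact mem_zpowers d
    · intro h
      rcases mem_zpowers_two' hd2' h with e | e
      · rcases (hπ1 _).1 e with k | k
        exacts [Or.inl k, Or.inr (Or.inl k)]
      · rcases hsame _ e with k | k
        exacts [Or.inr (Or.inr (Or.inl k)), Or.inr (Or.inr (Or.inr k))]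
  have hψ'surj : Function.Surjective ψ' := fun x => by
    obtain ⟨g, rfl⟩ := hψ x
    exact ⟨φ g, hψ' g⟩
  let e := (QuotientGroup.quotientMulEquivOfEq hker'.symm).trans
    (QuotientGroup.quotientKerEquivOfSurjective ψ' hψ'surj)
  obtain ⟨iso⟩ := Cfsg.Agent.S1713.result d hd2 hqd K hK e (by
    obtain ⟨g, hg, hc, hn1, hn2⟩ := hnwc
    refine ⟨π ⟨g, hg⟩, ?_, fun h => ?_⟩
    · rw [mem_centralizer_singleton_iff, hd, ← map_inv, ← map_mul, ← map_mul, ← map_mul, ← map_mul]
      exact congrArg π (Subtype.ext hc.eq)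
    · rw [hd, ← map_inv, ← map_mul, ← map_mul] at h
      rcases hsame _ h with e | e
      exacts [hn1 e, hn2 e])
  obtain ⟨hsF, hcF, haF⟩ := fi22_facts
  haveI hX : IsSimpleGroup (↥Y0 ⧸ T0) := MulEquiv.isSimpleGroup iso
  have hcX : Nat.card (↥Y0 ⧸ T0) = 64561751654400 := (Nat.card_congr iso.toEquiv).trans hcF
  have hna : ¬ ∀ a b : ↥Y0 ⧸ T0, a * b = b * a := by
    intro h
    letI : CommGroup (↥Y0 ⧸ T0) := { (inferInstance : Group (↥Y0 ⧸ T0)) with mul_comm := h }
    have hp := @IsSimpleGroup.prime_card (↥Y0 ⧸ T0) _ hX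
    rw [hcX] at hp
    exact absurd hp (Nat.not_prime_mul (a := 2) (b := 32280875827200) (by norm_num) (by norm_num))
  -- perfect
  have hperf : commutator ↥Y0 = ⊤ := by
    have htq : (⟨t, htY⟩ : ↥Y0) ∈ commutator ↥Y0 := by
      have hh : (⟨t, htC⟩ : ↥(centralizer ({u} : Set Y))) ∈ commutator _ := by
        rw [hq.1.commutator_eq_top]; trivial
      exact (commutator_le.2 fun a _ b _ => by
        rw [mem_comap, map_commutatorElement]
        exact commutator_mem_commutator (mem_top _) (mem_top _) :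
          commutator ↥(centralizer ({u} : Set Y)) ≤ (commutator ↥Y0).comap (inclusion hle)) hh
    have hmap : (commutator ↥Y0).map π = ⊤ := by
      rw [commutator_def, map_commutator, map_top_of_surjective π hπ, ← commutator_def]
      refine ((inferInstance : (commutator (↥Y0 ⧸ T0)).Normal).eq_bot_or_eq_top).resolve_left fun h => hna ?_
      intro a b
      rw [← commutatorElement_eq_one_iff_mul_comm, ← mem_bot, ← h]
      exact commutator_mem_commutator (mem_top a) (mem_top b)
    have hT : T0 ≤ commutator ↥Y0 := fun g hg => by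
      rcases mem_zpowers_two' ht2 hg with e | e
      · rw [show g = 1 from Subtype.ext e]; exact one_mem _
      · rwa [show g = ⟨t, htY⟩ from Subtype.ext e]
    have := congrArg (comap π) hmap
    rwa [comap_top, QuotientGroup.comap_map_mk', sup_eq_right.2 hT] at this
  have hcen : center ↥Y0 = T0 := by
    refine le_antisymm ?_ fun g hg => hTc g hg
    intro g hg
    have hn' : ((center ↥Y0).map π).Normal := Normal.map inferInstance _ hπ
    rcases hn'.eq_bot_or_eq_top with h | h
    · rw [← QuotientGroup.eq_one_iff g, ← mem_bot]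
      exact h ▸ mem_map_of_mem π hg
    · exfalso
      refine hna fun a b => ?_
      obtain ⟨a, ha, rfl⟩ := h.ge (mem_top a)
      obtain ⟨b, rfl⟩ := hπ b
      rw [← map_mul, ← map_mul, mem_center_iff.1 ha b]
  have hq0 : Cfsg.IsQuasisimple ↥Y0 :=
    ⟨⟨hperf⟩, MulEquiv.isSimpleGroup (QuotientGroup.quotientMulEquivOfEq hcen)⟩
  -- centralising modulo t
  have hcz : ∀ y : Y, (∀ n ∈ Y0, y * n * y⁻¹ * n⁻¹ ∈ zpowers t) → y ∈ zpowers t := by
    intro y hy
    letI : CommGroup ↥(zpowers t) :=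
      { (inferInstance : Group ↥(zpowers t)) with mul_comm := fun a b => mul_comm' a b }
    let θ : ↥Y0 →* ↥(zpowers t) :=
      { toFun := fun n => ⟨_, hy n n.2⟩
        map_one' := Subtype.ext (by simp)
        map_mul' := fun a b => Subtype.ext (by
          have hc := mem_center_iff.1 (zpowers_le.2 htc (hy b b.2)) ((a : Y)⁻¹)
          show y * ((a : Y) * b) * y⁻¹ * ((a : Y) * b)⁻¹ =
            (y * a * y⁻¹ * (a : Y)⁻¹) * (y * b * y⁻¹ * (b : Y)⁻¹)
          calc _ = y * a * y⁻¹ * ((y * b * y⁻¹ * (b : Y)⁻¹) * (a : Y)⁻¹) := by group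
            _ = _ := by rw [← hc]; group) }
    have hcomm : ∀ n : ↥Y0, y * n = n * y := fun n => by
      have h : θ n = 1 := Abelianization.commutator_subset_ker θ (by rw [hperf]; trivial)
      exact mul_inv_eq_iff_eq_mul.1 (mul_inv_eq_one.1 (congrArg Subtype.val h))
    have hyu : y ∈ Y0 := hle (mem_centralizer_singleton_iff.2 (hcomm uY))
    have : (⟨y, hyu⟩ : ↥Y0) ∈ center ↥Y0 := mem_center_iff.2 fun n => Subtype.ext (hcomm n).symm
    rw [hcen] at this
    exact this
  refine ⟨?_, hq0, htY, ?_⟩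
  · have hcomp : Cfsg.IsComponent Y0 := ⟨hY0.isSubnormal, hq0⟩
    refine le_antisymm (sup_le (Components.layer_le fun L hL => ?_) ?_)
      ((Components.IsComponent.le_layer hcomp).trans le_sup_left)
    · rcases Components.IsComponent.le_or_commutes hL hY0.isSubnormal with h | h
      · exact h
      · intro y hy
        rw [commutator_eq_bot_iff_le_centralizer] at h
        exact zpowers_le.2 htY (hcz y fun n hn => by
          rw [← mem_centralizer_iff.1 (h hy) n hn, mul_inv_cancel_right, mul_inv_cancel]; exact one_mem _)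
    · set Fi := Cfsg.fittingSubgroup Y
      haveI : Group.IsNilpotent ↥Fi := Cores.isNilpotent_of_le_fittingSubgroup le_rfl
      rcases Components.IsQuasisimple.normal_eq_top_or_le_center hq0 (Fi.subgroupOf Y0) with h | h
      · exact absurd (subgroupOf_eq_top.1 h) (Components.IsComponent.not_le_of_isSolvable hcomp inferInstance)
      · intro y hy
        refine zpowers_le.2 htY (hcz y fun n hn => ?_)
        have h1 : y * n * y⁻¹ * n⁻¹ ∈ Y0 := mul_mem (hY0.conj_mem n hn y) (inv_mem hn)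
        have h2 : y * n * y⁻¹ * n⁻¹ ∈ Fi := by
          rw [show y * n * y⁻¹ * n⁻¹ = y * (n * y⁻¹ * n⁻¹) by group]
          exact mul_mem hy ((inferInstance : Fi.Normal).conj_mem _ (inv_mem hy) n)
        have h3 := h (show (⟨_, h1⟩ : ↥Y0) ∈ Fi.subgroupOf Y0 from h2)
        rw [hcen] at h3
        exact h3
  · have hTmap : ∀ y : Y, T0.map (MulAut.conjNormal y : MulAut ↥Y0).toMonoidHom = T0 := fun y => by
      rw [← hcen]; exact Components.BBalance.map_center_equiv _
    let ρ : Y →* MulAut (↥Y0 ⧸ T0) :=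
      { toFun := fun y => QuotientGroup.congr T0 T0 (MulAut.conjNormal y) (hTmap y)
        map_one' := by
          refine MulEquiv.ext fun q => ?_
          obtain ⟨n, rfl⟩ := hπ q
          show π (MulAut.conjNormal (1 : Y) n) = π n
          rw [map_one]; rfl
        map_mul' := fun a b => by
          refine MulEquiv.ext fun q => ?_
          obtain ⟨n, rfl⟩ := hπ q
          show π (MulAut.conjNormal (a * b) n) = π (MulAut.conjNormal a (MulAut.conjNormal b n))
          rw [map_mul]; rfl }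
    have hρ : ρ.ker = zpowers t := by
      ext y
      rw [MonoidHom.mem_ker]
      constructor
      · intro h
        refine hcz y fun n hn => ?_
        have e : π (MulAut.conjNormal y ⟨n, hn⟩) = π ⟨n, hn⟩ := DFunLike.congr_fun h (π ⟨n, hn⟩)
        have : π (MulAut.conjNormal y ⟨n, hn⟩ * ⟨n, hn⟩⁻¹) = 1 := by rw [map_mul, map_inv, e, mul_inv_cancel]
        rw [← MonoidHom.mem_ker, QuotientGroup.ker_mk', mem_subgroupOf] at this
        exact this
      · intro h
        refine MulEquiv.ext fun q => ?_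
        obtain ⟨n, rfl⟩ := hπ q
        show π (MulAut.conjNormal y n) = π n
        refine congrArg π (Subtype.ext ?_)
        show y * (n : Y) * y⁻¹ = n
        rw [← mem_center_iff.1 (zpowers_le.2 htc h) n, mul_inv_cancel_right]
    let α : Y ⧸ zpowers t →* MulAut Cfsg.Spor.Fi22 :=
      (MulAut.congr iso).toMonoidHom.comp ((QuotientGroup.kerLift ρ).comp
        (QuotientGroup.quotientMulEquivOfEq hρ.symm).toMonoidHom)
    have hinj : Function.Injective α :=
      (MulAut.congr iso).injective.comp ((QuotientGroup.kerLift_injective ρ).comp (MulEquiv.injective _))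
    have hTY : Nat.card ↥T0 = Nat.card ↥(zpowers t) :=
      Nat.card_congr (subgroupOfEquivOfLe (zpowers_le.2 htY)).toEquiv
    have hcard : Nat.card (Y ⧸ zpowers t) = Nat.card (MulAut Cfsg.Spor.Fi22) := by
      have h1 := Y0.card_mul_index
      rw [hidx, card_eq_card_quotient_mul_card_subgroup T0, hcX, hTY,
        card_eq_card_quotient_mul_card_subgroup (zpowers t)] at h1
      rw [haF]
      have h0 : 0 < Nat.card ↥(zpowers t) := Nat.card_pos
      exact Nat.eq_of_mul_eq_mul_right h0 (by rw [← h1]; ring)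
    haveI : Finite (MulAut Cfsg.Spor.Fi22) := Nat.finite_of_card_ne_zero (by rw [haF]; norm_num)
    exact ⟨MulEquiv.ofBijective α ((Nat.bijective_iff_injective_and_card _).2 ⟨hinj, hcard⟩)⟩

end Cfsg.Agent.U62Fischer
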