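/-
The four-dimensional unitary space as the orthogonal of a line modulo that line, in the coordinates of six
lines over the field with four elements.

* `kd`, `wvec` : digits as elements of the field, the last four digits as a vector;
* `orth_*` : the orthogonal of the line of 15;
* `wvec_mkx`, `ext_orth` : surjectivity and extensionality of additive maps.
-/
import Cfsg.Agent.Lib.LargeFischer.Auto
import Cfsg.Agent.Lib.U62Rec.Space

set_option autoImplicit false
set_option maxRecDepth 100000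
set_option Elab.async false

namespace Cfsg.Agent.U62Fischer

open Cfsg.Agent.LargeFischer Cfsg.Agent.ThreeTransSU
open Cfsg.Agent.U62Rec (K V4 cardK)

/-- The field element of a digit. -/
def kd : ℕ → K
  | 1 => .o
  | 2 => .w
  | 3 => .w2
  | _ => .z

/-- The last four digits. -/
def wvec (x : ℕ) : V4 := fun i => kd (dgt x (i.val + 2))

/-- The scalar of order three. -/
def om : K := .w

/-- The orthogonal of the line. -/
def orth (x : ℕ) : Bool := orthn 15 x

/-- The line. -/
def line4 : List ℕ := [0, 5, 10, 15]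

/-- The basis of the orthogonal: the line, then the bits of the last four digits. -/
def orthBasis : List ℕ := [15, 5, 16, 32, 64, 128, 256, 512, 1024, 2048]

/-- The mask of an element of the orthogonal. -/
def orthMask (x : ℕ) : ℕ :=
  (match x % 16 with | 15 => 1 | 5 => 2 | 10 => 3 | _ => 0) + 4 * (x / 16)

theorem orth_facts : ((List.range 4096).all fun x => !orth x ||
    (Nat.beq (comb orthBasis (orthMask x)) x &&
      ((line4.contains x) == (List.range 4).all fun i => Nat.beq (dgt x (i + 2)) 0) &&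
      (Nat.beq (qn x) 0 ==
        Nat.beq (((List.range 4).filter fun i => !Nat.beq (dgt x (i + 2)) 0).length % 2) 0) &&
      orth (nmul x))) = true ∧
    ((List.range 4096).all fun x => (List.range 4).all fun i =>
      decide (kd (dgt (nmul x) (i + 2)) = om * kd (dgt x (i + 2)))) = true := by
  decide +kernel

theorem kd_facts : ∀ a b : Fin 4, kd (a.val ^^^ b.val) = kd a.val + kd b.val := by decide +kernel

theorem kd_zero : ∀ a : Fin 4, kd a.val = 0 ↔ a.val = 0 := by decide +kernel

theorem dgt_lt (x k : ℕ) : dgt x k < 4 := Nat.lt_succ_of_le Nat.and_le_right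

theorem dgt_xor (x y k : ℕ) : dgt (x ^^^ y) k = dgt x k ^^^ dgt y k := by
  show ((x ^^^ y) >>> _) &&& 3 = (x >>> _ &&& 3) ^^^ (y >>> _ &&& 3)
  rw [Nat.shiftRight_xor_distrib, Nat.and_xor_distrib_right]

theorem wvec_xor (x y : ℕ) : wvec (x ^^^ y) = wvec x + wvec y := by
  funext i
  show kd (dgt (x ^^^ y) _) = kd _ + kd _
  rw [dgt_xor]
  exact kd_facts ⟨_, dgt_lt _ _⟩ ⟨_, dgt_lt _ _⟩

theorem wvec_zero : wvec 0 = 0 := by decide +kernel

theorem wvec_nmul {x : ℕ} (hx : x < 4096) : wvec (nmul x) = om • wvec x := by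
  funext i
  have h := List.all_eq_true.1 (List.all_eq_true.1 orth_facts.2 x (List.mem_range.2 hx)) i.val (List.mem_range.2 i.isLt)
  exact of_decide_eq_true h

theorem orth_spec {x : ℕ} (hx : x < 4096) (h : orth x = true) :
    comb orthBasis (orthMask x) = x ∧ (x ∈ line4 ↔ wvec x = 0) ∧ orth (nmul x) = true ∧
      (qn x = 0 ↔ ((List.range 4).filter fun i => !Nat.beq (dgt x (i + 2)) 0).length % 2 = 0) := by
  have e := List.all_eq_true.1 orth_facts.1 x (List.mem_range.2 hx)
  rw [h] at e
  simp only [Bool.not_true, Bool.false_or, Bool.and_eq_true, Nat.beq_eq, beq_iff_eq] at e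
  obtain ⟨⟨⟨e1, e2⟩, e3⟩, e4⟩ := e
  refine ⟨e1, ?_, e4, ?_⟩
  · rw [← List.contains_iff_mem, e2, List.all_eq_true]
    constructor
    · intro h
      funext i
      have := Nat.eq_of_beq_eq_true (h i.val (List.mem_range.2 i.isLt))
      show kd (dgt x (i.val + 2)) = 0
      rw [this]; rfl
    · intro h i hi
      have h' : kd (dgt x (i + 2)) = 0 := congrFun h ⟨i, List.mem_range.1 hi⟩
      have h'' : dgt x (i + 2) = 0 := (kd_zero ⟨_, dgt_lt _ _⟩).1 h'
      rw [h'']
      rfl
  · constructor <;> intro h'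
    · have := e3.symm.trans (by rw [h']; rfl : Nat.beq (qn x) 0 = true)
      exact Nat.eq_of_beq_eq_true this
    · have := e3.trans (by rw [h']; rfl : _ = true)
      exact Nat.eq_of_beq_eq_true this

theorem norm_digits : ∀ a b c d : Fin 4,
    (hf (fun i => kd ((![a, b, c, d] i).val)) (fun i => kd ((![a, b, c, d] i).val)) = (0 : K)) ↔
      ([a, b, c, d].filter fun t => !Nat.beq t.val 0).length % 2 = 0 := by
  decide +kernel

/-- The hermitian form gives the quadratic form. -/
theorem wvec_norm {x : ℕ} (hx : x < 4096) (h : orth x = true) : hf (wvec x) (wvec x) = 0 ↔ qn x = 0 := by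
  rw [(orth_spec hx h).2.2.2]
  have e : wvec x = fun i => kd ((![⟨dgt x 2, dgt_lt _ _⟩, ⟨dgt x 3, dgt_lt _ _⟩, ⟨dgt x 4, dgt_lt _ _⟩,
      ⟨dgt x 5, dgt_lt _ _⟩] : Fin 4 → Fin 4) i).val := by
    funext i; fin_cases i <;> rfl
  rw [e, norm_digits]
  simp only [List.range, List.range.loop, List.filter]
  cases Nat.beq (dgt x 2) 0 <;> cases Nat.beq (dgt x 3) 0 <;> cases Nat.beq (dgt x 4) 0 <;>
    cases Nat.beq (dgt x 5) 0 <;> simp

/-- The number of a digit. -/
def dk : K → ℕ
  | .z => 0
  | .o => 1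
  | .w => 2
  | .w2 => 3

/-- The element of the orthogonal with given last digits. -/
def mkx (a b c d : K) : ℕ := 16 * dk a + 64 * dk b + 256 * dk c + 1024 * dk d

theorem mkx_spec : ∀ a b c d : K, mkx a b c d < 4096 ∧ orth (mkx a b c d) = true ∧
    wvec (mkx a b c d) = ![a, b, c, d] := by
  decide +kernel

theorem exists_orth (w : V4) : ∃ x < 4096, orth x = true ∧ wvec x = w := by
  obtain ⟨h1, h2, h3⟩ := mkx_spec (w 0) (w 1) (w 2) (w 3)
  refine ⟨_, h1, h2, h3.trans ?_⟩
  funext i; fin_cases i <;> rfl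

theorem orthBasis_spec : ∀ b ∈ orthBasis, b < 4096 ∧ orth b = true := by decide +kernel

theorem line4_spec : ∀ x ∈ line4, x < 4096 ∧ orth x = true ∧ wvec x = 0 := by decide +kernel

/-- Additive maps agreeing on the basis agree on the orthogonal. -/
theorem ext_orth {α : Type*} [AddMonoid α] {F F' : ℕ → α} (h0 : F 0 = F' 0)
    (hadd : ∀ x < 4096, ∀ y < 4096, F (x ^^^ y) = F x + F y)
    (hadd' : ∀ x < 4096, ∀ y < 4096, F' (x ^^^ y) = F' x + F' y)
    (hb : ∀ b ∈ orthBasis, F b = F' b) {x : ℕ} (hx : x < 4096) (h : orth x = true) : F x = F' x := by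
  have key : ∀ (l : List ℕ), (∀ b ∈ l, b < 4096 ∧ F b = F' b) → ∀ m,
      comb l m < 4096 ∧ F (comb l m) = F' (comb l m) := by
    intro l
    induction l with
    | nil => intro _ m; exact ⟨by show (0 : ℕ) < 4096; norm_num, h0⟩
    | cons a l ih =>
      intro hl m
      obtain ⟨h1, h2⟩ := ih (fun b hb => hl b (List.mem_cons_of_mem _ hb)) (m / 2)
      obtain ⟨ha4, ha⟩ := hl a List.mem_cons_self
      have hc : (if Nat.beq (m % 2) 1 then a else 0) < 4096 := by split_ifs; exacts [ha4, by norm_num]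
      refine ⟨xor_lt_pow hc h1, ?_⟩
      show F (_ ^^^ _) = F' (_ ^^^ _)
      rw [hadd _ hc _ h1, hadd' _ hc _ h1, h2]
      split_ifs
      · rw [ha]
      · rw [h0]
  rw [← (orth_spec hx h).1]
  exact (key _ (fun b hb' => ⟨(orthBasis_spec b hb').1, hb b hb'⟩) _).2

theorem basis_shape : ∀ b ∈ orthBasis, b ∈ line4 ∨ ∃ j : Fin 4, b = 2 ^ (2 * j.val + 4) ∨ b = nmul (2 ^ (2 * j.val + 4)) := by
  decide +kernel

theorem unit_spec : ∀ j : Fin 4, 2 ^ (2 * j.val + 4) < 4096 ∧ orth (2 ^ (2 * j.val + 4)) = true ∧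
    wvec (2 ^ (2 * j.val + 4)) = Pi.single j 1 := by
  decide +kernel

theorem inP_facts : ((vecsOf 0).all fun p => decide (p < 4096) && inP 0 p && orth p && Nat.beq (qn p) 0 &&
    !(line4.contains p) && [5, 10, 15].all fun e => !inP 0 (Nat.xor p e)) = true ∧
    ((List.range 4096).all fun x => !inP 0 x || (vecsOf 0).contains x) = true ∧
    ((List.range 27).all fun i => (lineOf 0 i).all fun x => inP 0 x) = true := by
  decide +kernel

theorem triples : [80, 160, 240, 1280, 1365, 3840, 3930, 2560, 2655].all (fun p => (vecsOf 0).contains p) = true ∧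
    Nat.xor 80 160 = 240 ∧ Nat.xor (Nat.xor 80 1280) 1365 = 5 ∧ Nat.xor (Nat.xor 80 3840) 3930 = 10 ∧
    Nat.xor (Nat.xor 80 2560) 2655 = 15 := by
  decide +kernel

theorem duals : (bn 1 15 = 1 ∧ bn 1 5 = 0) ∧ (bn 3 15 = 0 ∧ bn 3 5 = 1) ∧ qn 15 = 0 ∧ qn 5 = 0 ∧
    nmul 15 = 5 ∧ nmul 5 = 10 ∧ inSmall 0 15 = true ∧ inSmall 0 5 = true ∧ inSmall 0 10 = true := by
  decide +kernel

end Cfsg.Agent.U62Fischer
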