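/-
The pointwise stabiliser of a small line acts on the orthogonal of the line modulo the line as SU(4,2).

* `stab0` : the pointwise stabiliser of the line of 15;
* `psi`, `psi_spec`, `psi_mul`, `psi_surj`, `psi_eq_one` : the isomorphism with SU(4,2);
* `exists_swap_line` : an element fixing one vector of the line and moving the others.
-/
import Cfsg.Agent.Lib.LargeFischer.Coord
import Cfsg.Agent.Lib.U62Fischer.Model
import Cfsg.Agent.Lib.U62Rec.Ident

set_option autoImplicit false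
set_option maxRecDepth 100000

namespace Cfsg.Agent.U62Fischer

open Cfsg.Agent.LargeFischer Cfsg.Agent.ThreeTransSU
open Cfsg.Agent.U62Rec (K V4 U4 cardK)
open scoped Matrix

theorem k_pol : ∀ a b : K, a + a ^ 2 = b + b ^ 2 → om * a + (om * a) ^ 2 = om * b + (om * b) ^ 2 → a = b := by
  decide +kernel

theorem k_units : Nat.card Kˣ = 3 := by
  rw [Nat.card_eq_fintype_card, Fintype.card_units, cardK]

theorem k_sq_fix : ∀ c d : K, c ^ 2 = c → d ^ 2 = d → (c = 0 ↔ d = 0) → c = d := by decide +kernel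

theorem perm3_comm : ∀ a b : Equiv.Perm (Fin 3), Equiv.Perm.sign a = 1 → Equiv.Perm.sign b = 1 →
    a * b = b * a := by
  decide +kernel

/-- There is no subgroup of index three in SU(4,2). -/
theorem no_index_three (H : Subgroup U4) : H.index ≠ 3 := by
  classical
  intro h
  haveI : Fintype (U4 ⧸ H) := Fintype.ofFinite _
  have hc : Fintype.card (U4 ⧸ H) = 3 := by rw [← Nat.card_eq_fintype_card]; exact h
  let e := Fintype.equivFinOfCardEq hc
  let φ : U4 →* Equiv.Perm (Fin 3) :=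
    (e.permCongrHom).toMonoidHom.comp (MulAction.toPermHom U4 (U4 ⧸ H))
  have hs : ∀ g, Equiv.Perm.sign (φ g) = 1 := fun g => by
    have := Abelianization.commutator_subset_ker (Equiv.Perm.sign.comp φ)
      (show g ∈ commutator U4 by rw [U62Rec.U4_perfect]; trivial)
    exact this
  let φ' : U4 →* alternatingGroup (Fin 3) := φ.codRestrict _ fun g => Equiv.Perm.mem_alternatingGroup.2 (hs g)
  have h1 : ∀ g, φ g = 1 := by
    intro g
    have hle : commutator U4 ≤ φ'.ker := by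
      rw [commutator_def, Subgroup.commutator_le]
      intro a _ b _
      rw [MonoidHom.mem_ker, map_commutatorElement, commutatorElement_eq_one_iff_mul_comm]
      exact Subtype.ext (perm3_comm _ _ (Equiv.Perm.mem_alternatingGroup.1 (φ' a).2)
        (Equiv.Perm.mem_alternatingGroup.1 (φ' b).2))
    exact congrArg Subtype.val (hle (show g ∈ commutator U4 by rw [U62Rec.U4_perfect]; trivial))
  have htop : H = ⊤ := Subgroup.eq_top_iff' H |>.2 fun g => by
    have e1 : MulAction.toPermHom U4 (U4 ⧸ H) g = 1 :=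
      e.permCongrHom.injective ((h1 g).trans (map_one e.permCongrHom).symm)
    have e2 : g • ((1 : U4) : U4 ⧸ H) = ((1 : U4) : U4 ⧸ H) :=
      congrArg (fun σ : Equiv.Perm (U4 ⧸ H) => σ ((1 : U4) : U4 ⧸ H)) e1
    rw [MulAction.Quotient.smul_coe, smul_eq_mul, mul_one, QuotientGroup.eq, mul_one] at e2
    exact inv_mem_iff.1 e2
  rw [htop, Subgroup.index_top] at h
  exact absurd h (by norm_num)

variable {V : Type*} [AddCommGroup V] [Module (ZMod 2) V] [Finite V] {q : QuadraticForm (ZMod 2) V}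
  {Γ : Subgroup (V ≃ₗ[ZMod 2] V)} {n : V ≃ₗ[ZMod 2] V} (C : Coord q Γ n)

/-- The pointwise stabiliser of the line. -/
def stab0 : Subgroup (V ≃ₗ[ZMod 2] V) where
  carrier := {γ | γ ∈ Γ ∧ γ (C.M.e 15) = C.M.e 15 ∧ γ (C.M.e 5) = C.M.e 5}
  mul_mem' {a b} ha hb := ⟨mul_mem ha.1 hb.1, by show a (b _) = _; rw [hb.2.1, ha.2.1],
    by show a (b _) = _; rw [hb.2.2, ha.2.2]⟩
  one_mem' := ⟨one_mem _, rfl, rfl⟩
  inv_mem' {a} ha := ⟨inv_mem ha.1, (LinearEquiv.symm_apply_eq a).2 ha.2.1.symm,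
    (LinearEquiv.symm_apply_eq a).2 ha.2.2.symm⟩

theorem mem_stab0 {γ : V ≃ₗ[ZMod 2] V} :
    γ ∈ stab0 C ↔ γ ∈ Γ ∧ γ (C.M.e 15) = C.M.e 15 ∧ γ (C.M.e 5) = C.M.e 5 := Iff.rfl

/-- An element fixing 15 comes from an automorphism of the coordinates fixing it. -/
theorem auto15 {γ : V ≃ₗ[ZMod 2] V} (hγ : γ ∈ Γ) (h15 : γ (C.M.e 15) = C.M.e 15) :
    ∃ A : Auto 0, (∀ x < 4096, C.M.e (A.f x) = γ (C.M.e x)) ∧ A.f 15 = 15 ∧ (A.f 5 = 5 ∨ A.f 5 = 10) ∧
      (A.f 5 = 5 → ∀ x < 4096, A.f (nmul x) = nmul (A.f x)) := by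
  obtain ⟨A, hA⟩ := C.auto γ hγ
  have h := C.M.inj _ (A.lt 15 (by norm_num)) 15 (by norm_num) ((hA 15 (by norm_num)).trans h15)
  obtain ⟨s, hs, ht⟩ := A.twist
  have h5 : A.f 5 = npow s 15 := by
    have := ht 15 (by norm_num)
    rw [duals.2.2.2.2.1, h] at this
    exact this
  refine ⟨A, hA, h, ?_, fun e x hx => ?_⟩
  · rcases hs with rfl | rfl
    · exact Or.inl (h5.trans duals.2.2.2.2.1)
    · refine Or.inr (h5.trans ?_)
      show nmul (nmul 15) = 10
      rw [duals.2.2.2.2.1, duals.2.2.2.2.2.1]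
  · rcases hs with rfl | rfl
    · exact ht x hx
    · exfalso
      rw [e] at h5
      have : npow 2 15 = 10 := by decide
      omega

theorem auto0 {γ : V ≃ₗ[ZMod 2] V} (hγ : γ ∈ stab0 C) :
    ∃ A : Auto 0, (∀ x < 4096, A.f x = numMap C.M γ x) ∧ A.f 15 = 15 ∧ A.f 5 = 5 ∧
      (∀ x < 4096, A.f (nmul x) = nmul (A.f x)) := by
  obtain ⟨A, hA, h15, -, hn⟩ := auto15 C hγ.1 hγ.2.1
  have h5 : A.f 5 = 5 := C.M.inj _ (A.lt 5 (by norm_num)) 5 (by norm_num) ((hA 5 (by norm_num)).trans hγ.2.2)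
  exact ⟨A, fun x hx => C.M.inj _ (A.lt x hx) _ (numMap_spec C.M γ x).1
    ((hA x hx).trans (numMap_spec C.M γ x).2.symm), h15, h5, hn h5⟩

include C in
theorem orth_image {A : Auto 0} (h15 : A.f 15 = 15) {x : ℕ} (hx : x < 4096) : orth (A.f x) = orth x := by
  show orthn 15 (A.f x) = orthn 15 x
  conv_lhs => rw [← h15]
  exact A.map_orthn C.M (by norm_num) hx

theorem numMap_mul (γ δ : V ≃ₗ[ZMod 2] V) (x : ℕ) :
    numMap C.M (γ * δ) x = numMap C.M γ (numMap C.M δ x) := by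
  refine C.M.inj _ (numMap_spec C.M _ _).1 _ (numMap_spec C.M _ _).1 ?_
  rw [(numMap_spec C.M _ _).2, (numMap_spec C.M _ _).2, (numMap_spec C.M _ _).2]
  rfl

theorem numMap_one {x : ℕ} (hx : x < 4096) : numMap C.M (1 : V ≃ₗ[ZMod 2] V) x = x :=
  C.M.inj _ (numMap_spec C.M _ _).1 _ hx ((numMap_spec C.M _ _).2.trans rfl)

/-- The matrix on the orthogonal modulo the line. -/
noncomputable def mat (γ : V ≃ₗ[ZMod 2] V) : Matrix (Fin 4) (Fin 4) K :=
  Matrix.of fun i j => wvec (numMap C.M γ (2 ^ (2 * j.val + 4))) i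

theorem mat_spec {γ : V ≃ₗ[ZMod 2] V} (hγ : γ ∈ stab0 C) {x : ℕ} (hx : x < 4096) (h : orth x = true) :
    mat C γ *ᵥ wvec x = wvec (numMap C.M γ x) := by
  obtain ⟨A, hA, h15, h5, hn⟩ := auto0 C hγ
  rw [← hA x hx]
  have hf0 : A.f 0 = 0 := by
    have := A.add 0 (by norm_num) 0 (by norm_num)
    rwa [Nat.xor_self, Nat.xor_self] at this
  refine ext_orth (F := fun y => mat C γ *ᵥ wvec y) (F' := fun y => wvec (A.f y)) ?_
    (fun a _ b _ => by simp only [wvec_xor, Matrix.mulVec_add])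
    (fun a ha b hb => by simp only [A.add a ha b hb, wvec_xor]) (fun b hb => ?_) hx h
  · simp only [wvec_zero, Matrix.mulVec_zero, hf0]
  obtain ⟨hb4, -⟩ := orthBasis_spec b hb
  have hline : ∀ y ∈ line4, A.f y ∈ line4 := by
    intro y hy
    have h10 : A.f 10 = 10 := by
      rw [show (10 : ℕ) = 15 ^^^ 5 from rfl, A.add 15 (by norm_num) 5 (by norm_num), h15, h5]
    simp only [line4, List.mem_cons, List.not_mem_nil, or_false] at hy ⊢
    rcases hy with rfl | rfl | rfl | rfl <;> omega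
  rcases basis_shape b hb with hl | ⟨j, rfl | rfl⟩
  · simp only [(line4_spec b hl).2.2, (line4_spec _ (hline b hl)).2.2, Matrix.mulVec_zero]
  · simp only [(unit_spec j).2.2, hA _ hb4, Matrix.mulVec_single_one]
    rfl
  · obtain ⟨h4, -, hu⟩ := unit_spec j
    simp only [wvec_nmul h4, hu, Matrix.mulVec_smul, Matrix.mulVec_single_one, hn _ h4,
      wvec_nmul (A.lt _ h4)]
    rw [hA _ h4]
    rfl

theorem mat_mul {γ δ : V ≃ₗ[ZMod 2] V} (hγ : γ ∈ stab0 C) (hδ : δ ∈ stab0 C) :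
    mat C (γ * δ) = mat C γ * mat C δ := by
  refine Matrix.ext_of_mulVec_single fun j => ?_
  obtain ⟨h4, ho, hu⟩ := unit_spec j
  obtain ⟨A, hA, h15, -⟩ := auto0 C hδ
  rw [← hu, ← Matrix.mulVec_mulVec, mat_spec C (mul_mem hγ hδ) h4 ho, mat_spec C hδ h4 ho,
    mat_spec C hγ (numMap_spec C.M δ _).1 (by rw [← hA _ h4, orth_image C h15 h4, ho]), numMap_mul]

theorem mat_one : mat C (1 : V ≃ₗ[ZMod 2] V) = 1 := by
  refine Matrix.ext_of_mulVec_single fun j => ?_
  obtain ⟨h4, ho, hu⟩ := unit_spec j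
  rw [← hu, mat_spec C (one_mem _) h4 ho, numMap_one C h4, Matrix.one_mulVec]

theorem mat_norm {γ : V ≃ₗ[ZMod 2] V} (hγ : γ ∈ stab0 C) (u : V4) :
    hf (mat C γ *ᵥ u) (mat C γ *ᵥ u) = hf u u := by
  obtain ⟨x, hx, ho, rfl⟩ := exists_orth u
  obtain ⟨A, hA, h15, -⟩ := auto0 C hγ
  rw [mat_spec C hγ hx ho, ← hA x hx]
  refine k_sq_fix _ _ ((herm cardK).self_fixed _) ((herm cardK).self_fixed _) ?_
  rw [wvec_norm (A.lt x hx) (by rw [orth_image C h15 hx, ho]), wvec_norm hx ho, A.qn_f x hx]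

theorem mat_form {γ : V ≃ₗ[ZMod 2] V} (hγ : γ ∈ stab0 C) (u v : V4) :
    hf (mat C γ *ᵥ u) (mat C γ *ᵥ v) = hf u v := by
  have key : ∀ a b : V4, hf (mat C γ *ᵥ a) (mat C γ *ᵥ b) + hf (mat C γ *ᵥ a) (mat C γ *ᵥ b) ^ 2 =
      hf a b + hf a b ^ 2 := by
    intro a b
    have h := mat_norm C hγ (a + b)
    rw [Matrix.mulVec_add, U62Rec.hl, U62Rec.hr, U62Rec.hr, U62Rec.hl, U62Rec.hr, U62Rec.hr,
      mat_norm C hγ a, mat_norm C hγ b, U62Rec.hs (mat C γ *ᵥ a) (mat C γ *ᵥ b), U62Rec.hs a b] at h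
    linear_combination h
  have h2 := key (om • u) v
  rw [Matrix.mulVec_smul, U62Rec.sl, U62Rec.sl] at h2
  exact k_pol _ _ (key u v) h2

theorem line_fixed {γ : V ≃ₗ[ZMod 2] V} (hγ : γ ∈ stab0 C) (h1 : mat C γ = 1) : γ = 1 := by
  obtain ⟨A, hA, h15, h5, -⟩ := auto0 C hγ
  have hpt : ∀ p < 4096, inP 0 p = true → A.f p = p := by
    intro p hp hP
    have hv : p ∈ vecsOf 0 := by
      have := List.all_eq_true.1 inP_facts.2.1 p (List.mem_range.2 hp)
      rw [hP] at this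
      simpa using this
    have hf := List.all_eq_true.1 inP_facts.1 p hv
    simp only [List.all_cons, List.all_nil, Bool.and_true, Bool.and_eq_true, Bool.not_eq_true', decide_eq_true_eq,
      Nat.beq_eq] at hf
    obtain ⟨⟨⟨⟨⟨-, -⟩, ho⟩, -⟩, -⟩, he⟩ := hf
    have hw : wvec (A.f p) = wvec p := by
      rw [hA p hp, ← mat_spec C hγ hp ho, h1, Matrix.one_mulVec]
    have hlt := A.lt p hp
    have hox : orth (A.f p ^^^ p) = true := by
      have ho' : orth (A.f p) = true := by rw [orth_image C h15 hp, ho]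
      have : ∀ a b, a < 4096 → b < 4096 → orth a = true → orth b = true → orth (a ^^^ b) = true := by
        intro a b ha hb h1 h2
        simp only [orth, orthn, Bool.and_eq_true, Nat.beq_eq] at h1 h2 ⊢
        have hz : ∀ {c : ℕ}, c < 4096 → bn c a = 0 → bn c b = 0 → bn c (a ^^^ b) = 0 := by
          intro c hc e1 e2
          refine cast_inj_two (bn_lt _ _) (by norm_num) ?_
          rw [C.M.bn_polar hc (xor_lt_pow ha hb), C.M.add a ha b hb, QuadraticMap.polar_add_right,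
            ← C.M.bn_polar hc ha, ← C.M.bn_polar hc hb, e1, e2]
          simp
        exact ⟨hz (by norm_num) h1.1 h2.1, hz (nmul_lt' (by norm_num)) h1.2 h2.2⟩
      exact this _ _ hlt hp ho' ho
    have h0 : wvec (A.f p ^^^ p) = 0 := by rw [wvec_xor, hw]; exact U62Rec.vv _
    have hmem := ((orth_spec (xor_lt_pow hlt hp) hox).2.1).2 h0
    have hP' : inP 0 (A.f p) = true := (A.map_inP C.M h15 hp).trans hP
    have e : A.f p = (A.f p ^^^ p) ^^^ p := by rw [Nat.xor_assoc, Nat.xor_self, Nat.xor_zero]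
    simp only [line4, List.mem_cons, List.not_mem_nil, or_false] at hmem
    rcases hmem with k | k | k | k <;> rw [k, Nat.xor_comm] at e
    · rw [e, Nat.xor_zero]
    all_goals
      exfalso
      rw [e] at hP'
      rw [show p ^^^ _ = Nat.xor p _ from rfl] at hP'
      rw [hP'] at he
      simp at he
  have hin : ∀ i < 27, ∀ x ∈ lineOf 0 i, inP 0 x = true := fun i hi x hx =>
    List.all_eq_true.1 (List.all_eq_true.1 inP_facts.2.2 i (List.mem_range.2 hi)) x hx
  have hk := A.kernel C.M (by norm_num) h15 fun i hi x hx => by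
    constructor
    · intro h
      have h1 := hin i hi _ h
      rw [A.map_inP C.M h15 hx] at h1
      rwa [hpt x hx h1] at h
    · intro h
      rwa [hpt x hx (hin i hi x h)]
  rcases hk with h | h
  · refine LinearEquiv.ext fun v => ?_
    obtain ⟨x, hx, rfl⟩ := C.M.surj v
    rw [← (numMap_spec C.M γ x).2, ← hA x hx, h x hx]
    rfl
  · exact absurd ⟨γ, hγ.1, fun x hx => by rw [← (numMap_spec C.M γ x).2, ← hA x hx, h x hx]⟩
      (C.no_tr 15 (by norm_num) duals.2.2.2.2.2.2.1)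

/-- The matrix as a homomorphism. -/
noncomputable def matHom : ↥(stab0 C) →* Matrix (Fin 4) (Fin 4) K where
  toFun γ := mat C γ
  map_one' := mat_one C
  map_mul' γ δ := mat_mul C γ.2 δ.2

/-- The determinant. -/
noncomputable def detHom : ↥(stab0 C) →* Kˣ :=
  ((Matrix.detMonoidHom).comp (matHom C)).toHomUnits

theorem detHom_eq {γ : ↥(stab0 C)} : detHom C γ = 1 ↔ (mat C γ).det = 1 :=
  ⟨fun h => congrArg Units.val h, fun h => Units.ext h⟩

/-- The kernel of the determinant into SU(4,2). -/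
noncomputable def kerHom : ↥(detHom C).ker →* U4 where
  toFun γ := ⟨⟨mat C γ.1, (detHom_eq C).1 γ.2⟩, fun u v => mat_form C γ.1.2 u v⟩
  map_one' := Subtype.ext (Subtype.ext (mat_one C))
  map_mul' γ δ := Subtype.ext (Subtype.ext (mat_mul C γ.1.2 δ.1.2))

theorem kerHom_injective : Function.Injective (kerHom C) := by
  rw [injective_iff_map_eq_one]
  intro γ h
  exact Subtype.ext (Subtype.ext (line_fixed C γ.1.2 (congrArg (fun a : U4 => a.1.1) h)))

variable (hcard : Nat.card (MulAction.stabilizer Γ (C.M.e 15)) = 51840)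
include hcard

theorem stab0_facts : Nat.card (stab0 C) = 25920 ∧ (detHom C).ker = ⊤ := by
  classical
  haveI := finite_equiv (V := V)
  set P := MulAction.stabilizer Γ (C.M.e 15)
  let ι : ↥P →* (V ≃ₗ[ZMod 2] V) := Γ.subtype.comp P.subtype
  set P0 : Subgroup ↥P := (stab0 C).comap ι
  have hP0 : Nat.card P0 = Nat.card (stab0 C) := by
    refine Nat.card_eq_of_bijective (fun γ => ⟨ι γ.1, γ.2⟩) ⟨fun a b h => ?_, fun γ => ?_⟩
    · exact Subtype.ext (Subtype.ext (Subtype.ext (Subtype.mk.inj h)))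
    · exact ⟨⟨⟨⟨γ.1, γ.2.1⟩, γ.2.2.1⟩, γ.2⟩, rfl⟩
  have hidx : P0.index ≤ 2 := by
    have hout : ∀ γ : ↥P, γ ∉ P0 → (ι γ) (C.M.e 5) = C.M.e 10 := by
      intro γ hγ
      obtain ⟨A, hA, -, h5, -⟩ := auto15 C γ.1.2 γ.2
      rcases h5 with h5 | h5
      · exact absurd ⟨γ.1.2, γ.2, by rw [show ι γ (C.M.e 5) = C.M.e (A.f 5) from (hA 5 (by norm_num)).symm, h5]⟩ hγ
      · exact (hA 5 (by norm_num)).symm.trans (by rw [h5])
    rw [Subgroup.index]
    refine le_trans ?_ (le_of_eq (Nat.card_fin 2))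
    refine Nat.card_le_card_of_injective (fun c : ↥P ⧸ P0 => if c = ((1 : ↥P) : ↥P ⧸ P0) then (0 : Fin 2) else 1) ?_
    intro c d h
    obtain ⟨a, rfl⟩ := QuotientGroup.mk_surjective c
    obtain ⟨b, rfl⟩ := QuotientGroup.mk_surjective d
    simp only [QuotientGroup.eq, mul_one, inv_mem_iff] at h ⊢
    by_cases ha : a ∈ P0 <;> by_cases hb : b ∈ P0
    · exact mul_mem (inv_mem ha) hb
    · simp [ha, hb] at h
    · simp [ha, hb] at h
    · refine ⟨(a⁻¹ * b).1.2, (a⁻¹ * b).2, ?_⟩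
      show (ι a).symm ((ι b) (C.M.e 5)) = C.M.e 5
      rw [LinearEquiv.symm_apply_eq, hout a ha, hout b hb]
  have h1 := P0.card_mul_index
  rw [hP0, hcard] at h1
  have hK1 : Nat.card (detHom C).ker ∣ 25920 := by
    rw [← U62Rec.card_SU4]
    exact Subgroup.card_dvd_of_injective _ (kerHom_injective C)
  have h2 := (detHom C).ker.card_mul_index
  have hr : (detHom C).ker.index ∣ 3 := by
    rw [Subgroup.index_ker, ← k_units]
    exact Subgroup.card_subgroup_dvd_card _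
  have hi0 : 0 < P0.index := Nat.pos_of_ne_zero Subgroup.index_ne_zero_of_finite
  rcases (show (detHom C).ker.index = 1 ∨ (detHom C).ker.index = 3 from
    (Nat.dvd_prime Nat.prime_three).1 hr) with r | r
  · refine ⟨?_, Subgroup.index_eq_one.1 r⟩
    rw [r, mul_one] at h2
    rw [h2] at hK1
    rcases (by omega : P0.index = 1 ∨ P0.index = 2) with i | i <;> rw [i] at h1
    · exfalso
      rw [show Nat.card (stab0 C) = 51840 by omega] at hK1
      exact absurd hK1 (by norm_num)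
    · omega
  · exfalso
    rw [r] at h2
    rcases (by omega : P0.index = 1 ∨ P0.index = 2) with i | i <;> rw [i] at h1
    · rw [show Nat.card (detHom C).ker = 17280 by omega] at hK1
      exact absurd hK1 (by norm_num)
    · have h3 := (kerHom C).range.card_mul_index
      rw [U62Rec.card_SU4, ← Nat.card_congr (MonoidHom.ofInjective (kerHom_injective C)).toEquiv,
        show Nat.card (detHom C).ker = 8640 by omega] at h3
      exact no_index_three _ (show (kerHom C).range.index = 3 by omega)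

/-- The isomorphism with SU(4,2). -/
noncomputable def psi (γ : V ≃ₗ[ZMod 2] V) : U4 :=
  open Classical in
  if h : γ ∈ stab0 C then kerHom C ⟨⟨γ, h⟩, (stab0_facts C hcard).2 ▸ Subgroup.mem_top _⟩ else 1

theorem psi_eq {γ : V ≃ₗ[ZMod 2] V} (h : γ ∈ stab0 C) :
    psi C hcard γ = kerHom C ⟨⟨γ, h⟩, (stab0_facts C hcard).2 ▸ Subgroup.mem_top _⟩ := dif_pos h

theorem psi_spec {γ : V ≃ₗ[ZMod 2] V} (h : γ ∈ stab0 C) {x : ℕ} (hx : x < 4096) (ho : orth x = true) :
    act (psi C hcard γ) (wvec x) = wvec (numMap C.M γ x) := by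
  rw [psi_eq C hcard h]
  exact mat_spec C h hx ho

theorem psi_mul {γ δ : V ≃ₗ[ZMod 2] V} (hγ : γ ∈ stab0 C) (hδ : δ ∈ stab0 C) :
    psi C hcard (γ * δ) = psi C hcard γ * psi C hcard δ := by
  rw [psi_eq C hcard (mul_mem hγ hδ), psi_eq C hcard hγ, psi_eq C hcard hδ, ← map_mul]
  rfl

theorem psi_eq_one {γ : V ≃ₗ[ZMod 2] V} (h : γ ∈ stab0 C) : psi C hcard γ = 1 ↔ γ = 1 := by
  rw [psi_eq C hcard h, ← map_one (kerHom C), (kerHom_injective C).eq_iff]
  exact ⟨fun e => congrArg (fun a => a.1.1) e, fun e => Subtype.ext (Subtype.ext e)⟩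

theorem psi_surj (a : U4) : ∃ γ ∈ stab0 C, psi C hcard γ = a := by
  obtain ⟨hc, htop⟩ := stab0_facts C hcard
  haveI := finite_equiv (V := V)
  have hb : Function.Bijective (kerHom C) := (Nat.bijective_iff_injective_and_card _).2
    ⟨kerHom_injective C, by rw [htop, Subgroup.card_top, hc, U62Rec.card_SU4]⟩
  obtain ⟨γ, rfl⟩ := hb.2 a
  exact ⟨γ.1.1, γ.1.2, psi_eq C hcard γ.1.2⟩

/-- An element fixing 15 and interchanging the other two vectors of the line. -/
theorem exists_swap_line : ∃ γ ∈ Γ, γ (C.M.e 15) = C.M.e 15 ∧ γ (C.M.e 5) = C.M.e 10 := by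
  classical
  haveI := finite_equiv (V := V)
  by_contra hno
  have hall : ∀ γ : MulAction.stabilizer Γ (C.M.e 15), (γ.1 : V ≃ₗ[ZMod 2] V) ∈ stab0 C := by
    intro γ
    obtain ⟨A, hA, -, h5, -⟩ := auto15 C γ.1.2 γ.2
    rcases h5 with h5 | h5
    · exact ⟨γ.1.2, γ.2, (hA 5 (by norm_num)).symm.trans (by rw [h5])⟩
    · exact absurd ⟨_, γ.1.2, γ.2, (hA 5 (by norm_num)).symm.trans (by rw [h5])⟩ hno
  have h := Nat.card_le_card_of_injective (fun γ => (⟨_, hall γ⟩ : stab0 C))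
    (fun a b e => Subtype.ext (Subtype.ext (Subtype.mk.inj e)))
  rw [hcard, (stab0_facts C hcard).1] at h
  omega

end Cfsg.Agent.U62Fischer
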