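/-
The coordinates of Q/⟨z⟩ around the line of 15 for a group of large Fischer type.

* `numOf`, `wOf` : the number of a vector, its image in the unitary space;
* `v15`, `v5`, `v10` : the vectors of the line;
* `nonconj` : elements of Q over small vectors are not conjugate to z;
* `Pt.line_setting` : the line setting with the scalar of the coordinates.
-/
import Cfsg.Agent.Lib.U62Fischer.Stab
import Cfsg.Agent.Lib.LargeFischer.Setting
import Cfsg.Agent.Lib.LargeFischer.LinePair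

set_option autoImplicit false
set_option maxRecDepth 100000

namespace Cfsg.Agent.U62Fischer

open Cfsg.Agent.LargeFischer LargeExtraspecial
open Cfsg.Agent.U62Rec (K V4 U4 cardK)

universe u

section Model

variable {V : Type*} [AddCommGroup V] [Module (ZMod 2) V] [Finite V] {q : QuadraticForm (ZMod 2) V} {n : V ≃ₗ[ZMod 2] V}
  (M : Model q n)

/-- The number of a vector. -/
noncomputable def numOf (w : V) : ℕ := (M.surj w).choose

theorem numOf_spec (w : V) : numOf M w < 4096 ∧ M.e (numOf M w) = w := (M.surj w).choose_spec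

theorem numOf_e {x : ℕ} (hx : x < 4096) : numOf M (M.e x) = x :=
  M.inj _ (numOf_spec M _).1 x hx (numOf_spec M _).2

theorem numOf_add (v w : V) : numOf M (v + w) = numOf M v ^^^ numOf M w := by
  obtain ⟨h1, e1⟩ := numOf_spec M v
  obtain ⟨h2, e2⟩ := numOf_spec M w
  conv_lhs => rw [← e1, ← e2, ← M.add _ h1 _ h2]
  exact numOf_e M (xor_lt_pow h1 h2)

theorem numOf_map (γ : V ≃ₗ[ZMod 2] V) (w : V) : numOf M (γ w) = numMap M γ (numOf M w) := by
  refine M.inj _ (numOf_spec M _).1 _ (numMap_spec M γ _).1 ?_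
  rw [(numOf_spec M _).2, (numMap_spec M γ _).2, (numOf_spec M _).2]

/-- The image in the unitary space. -/
noncomputable def wOf (w : V) : V4 := wvec (numOf M w)

theorem wOf_add (v w : V) : wOf M (v + w) = wOf M v + wOf M w := by
  unfold wOf; rw [numOf_add, wvec_xor]

/-- Polar values by numbers. -/
theorem polar_num (v w : V) : QuadraticMap.polar q v w = (bn (numOf M v) (numOf M w) : ZMod 2) := by
  rw [M.bn_polar (numOf_spec M _).1 (numOf_spec M _).1, (numOf_spec M _).2, (numOf_spec M _).2]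

theorem q_num (w : V) : q w = (qn (numOf M w) : ZMod 2) := by
  conv_lhs => rw [← (numOf_spec M w).2]
  exact M.q_e _ (numOf_spec M w).1

theorem polar_comm' (v w : V) : QuadraticMap.polar q v w = QuadraticMap.polar q w v := by
  simp only [QuadraticMap.polar, add_comm v w]; abel

theorem orth_num {w : V} (h1 : QuadraticMap.polar q (M.e 15) w = 0) (h2 : QuadraticMap.polar q (M.e 5) w = 0) :
    orth (numOf M w) = true := by
  rw [polar_num, numOf_e M (by norm_num)] at h1 h2
  show (Nat.beq _ 0 && Nat.beq _ 0) = true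
  rw [duals.2.2.2.2.1]
  have e1 := cast_inj_two (bn_lt _ _) (by norm_num) (h1.trans Nat.cast_zero.symm)
  have e2 := cast_inj_two (bn_lt _ _) (by norm_num) (h2.trans Nat.cast_zero.symm)
  rw [e1, e2]
  rfl

theorem v10_eq : M.e 10 = M.e 15 + M.e 5 := by
  rw [← M.add 15 (by norm_num) 5 (by norm_num)]; rfl

end Model

open scoped commutatorElement

variable {G : Type u} [Group G] [Finite G] {z : G} {Q : Subgroup (Subgroup.centralizer ({z} : Set G))}
  [Q.Normal] [hE : Fact (Cfsg.IsExtraspecial 2 Q)] (hF : Cfsg.IsOfLargeFischerTypeAt z Q) (S : Setting z Q)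

include hF

theorem stab15_card : Nat.card (MulAction.stabilizer (toGL Q).range (S.C.M.e 15)) = 51840 := by
  rw [S.stab_card 15 (by norm_num) (by norm_num) duals.2.2.1, duals.2.2.2.2.2.2.1]
  rfl

/-- Elements of Q over small vectors are not conjugates of z. -/
theorem nonconj {a : G} (ha : a ∈ QG Q) {x : ℕ} (hx : x < 4096) (hx0 : x ≠ 0) (hq : qn x = 0)
    (hs : inSmall 0 x = true) (hv : vec Q a = S.C.M.e x) : ¬ IsConj z a := by
  intro h
  obtain ⟨g, hg⟩ := isConj_iff.1 h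
  obtain ⟨p, rfl⟩ := exists_coe ha
  rw [vec_coe] at hv
  have hne : ((p : Subgroup.centralizer ({z} : Set G)) : G) ≠ z := fun e => by
    have h0 : vec Q ((p : Subgroup.centralizer ({z} : Set G)) : G) = 0 :=
      (congrArg (vec Q) e).trans (vec_z (Q := Q) (data_of_type hF))
    rw [vec_coe, hv, ← S.C.M.zero] at h0
    exact hx0 (S.C.M.inj x hx 0 (by norm_num) h0)
  have h3 := (central_facts hF hg hne (p : Subgroup.centralizer ({z} : Set G)).2 p.2 _ _ rfl rfl).2.2.1
  have h4 : Nat.card (MulAction.stabilizer (toGL Q).range (OutForm.pr p)) = 11520 := h3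
  rw [hv, S.stab_card x hx hx0 hq, hs] at h4
  simp at h4

theorem line_small {x : ℕ} (hx : x = 5 ∨ x = 10 ∨ x = 15) {a : G} (ha : a ∈ QG Q)
    (hv : vec Q a = S.C.M.e x) : ¬ IsConj z a := by
  have : ∀ x ∈ [5, 10, 15], x < 4096 ∧ x ≠ 0 ∧ qn x = 0 ∧ inSmall 0 x = true := by decide +kernel
  obtain ⟨h1, h2, h3, h4⟩ := this x (by simpa using hx)
  exact nonconj hF S ha h1 h2 h3 h4 hv

theorem n_sum (v : OutForm.Vm Q) : S.n (S.n v) = v + S.n v := by
  obtain ⟨x, hx, rfl⟩ := S.C.M.surj v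
  rw [S.C.M.n_e x hx, S.C.M.n_e _ (nmul_lt' hx), (nmul_three hx).2, S.C.M.add x hx _ (nmul_lt' hx)]

theorem n_normal {γ : OutForm.Vm Q ≃ₗ[ZMod 2] OutForm.Vm Q} (hγ : γ ∈ (toGL Q).range) :
    (∀ v, γ (S.n v) = S.n (γ v)) ∨ ∀ v, γ (S.n v) = S.n (S.n (γ v)) := by
  obtain ⟨A, hA⟩ := S.C.auto γ hγ
  obtain ⟨s, hs, ht⟩ := A.twist
  rcases hs with rfl | rfl
  · refine Or.inl fun v => ?_
    obtain ⟨x, hx, rfl⟩ := S.C.M.surj v
    rw [S.C.M.n_e x hx, ← hA _ (nmul_lt' hx), ht x hx, ← hA x hx, S.C.M.n_e _ (A.lt x hx)]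
    rfl
  · refine Or.inr fun v => ?_
    obtain ⟨x, hx, rfl⟩ := S.C.M.surj v
    rw [S.C.M.n_e x hx, ← hA _ (nmul_lt' hx), ht x hx, ← hA x hx, S.C.M.n_e _ (A.lt x hx),
      S.C.M.n_e _ (nmul_lt' (A.lt x hx))]
    rfl

theorem line_setting {s g : G} (T : Pt Q s g) :
    Line (OutForm.qf Q) S.n (vec Q s) (Wsp Q g) (Eset Q g) := by
  obtain ⟨x, X⟩ := exists_gen hF
  have L := T.line X
  refine ⟨L.fin, L.nd, ?_, n_sum hF S, S.n_fix, L.v_ne, L.v_sing, L.v_mem, L.iso, L.W_sing, L.cardW, L.cardV,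
    L.E_q, L.E_v, L.E_W, L.E_perp, L.E_fix, L.E_faith, L.E_mul, L.E_sq, L.E_card, ?_⟩
  · intro v
    obtain ⟨c, hc⟩ := S.n_mem
    rw [← hc, toGL_q]
  · rintro _ ⟨r, ⟨-, hrz⟩, rfl⟩
    exact n_normal hF S (act_mem hrz)

end Cfsg.Agent.U62Fischer
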