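/-
A four group over a small line and its centraliser in the centraliser of z.

* `Four` : two commuting involutions of Q over the vectors of the line;
* `Four.adj`, `Four.conj_to` : any two are conjugate under Q;
* `Four.lift`, `Four.act_mem` : the centraliser in C(z) induces the pointwise stabiliser of the line.
-/
import Cfsg.Agent.Lib.U62Fischer.Line

set_option autoImplicit false
set_option maxRecDepth 100000

namespace Cfsg.Agent.U62Fischer

open Cfsg.Agent.LargeFischer LargeExtraspecial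

universe u

variable {G : Type u} [Group G] [Finite G] {z : G} {Q : Subgroup (Subgroup.centralizer ({z} : Set G))}
  [Q.Normal] [hE : Fact (Cfsg.IsExtraspecial 2 Q)]

/-- Two commuting involutions over the line. -/
structure Four (S : Setting z Q) (t u : G) : Prop where
  type : Cfsg.IsOfLargeFischerTypeAt z Q
  t_mem : t ∈ QG Q
  u_mem : u ∈ QG Q
  t_vec : vec Q t = S.C.M.e 15
  u_vec : vec Q u = S.C.M.e 5

variable {S : Setting z Q} {t u : G}

theorem exists_four (hF : Cfsg.IsOfLargeFischerTypeAt z Q) : ∃ t u : G, Four S t u := by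
  obtain ⟨t, ht, et⟩ := vec_surj (Q := Q) (S.C.M.e 15)
  obtain ⟨u, hu, eu⟩ := vec_surj (Q := Q) (S.C.M.e 5)
  exact ⟨t, u, hF, ht, hu, et, eu⟩

namespace Four

variable (F : Four S t u)
include F

theorem data : Data (QG Q) z := data_of_type F.type

theorem t_sq : t * t = 1 := by
  refine (qf_eq_zero F.t_mem).1 ?_
  rw [F.t_vec, S.C.M.q_e 15 (by norm_num), duals.2.2.1, Nat.cast_zero]

theorem u_sq : u * u = 1 := by
  refine (qf_eq_zero F.u_mem).1 ?_
  rw [F.u_vec, S.C.M.q_e 5 (by norm_num), duals.2.2.2.1, Nat.cast_zero]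

theorem tu_comm : t * u = u * t := by
  refine (polar_eq_zero F.t_mem F.u_mem).1 ?_
  rw [F.t_vec, F.u_vec, ← S.C.M.bn_polar (by norm_num) (by norm_num),
    show bn 15 5 = 0 by decide +kernel, Nat.cast_zero]

theorem t_cases {y : G} : y ∈ ({1, t, u, t * u} : Set G) ↔ y = 1 ∨ y = t ∨ y = u ∨ y = t * u := by
  simp [Set.mem_insert_iff]

/-- The four group. -/
def E : Subgroup G where
  carrier := {1, t, u, t * u}
  one_mem' := Or.inl rfl
  mul_mem' {a b} ha hb := by
    have h1 := F.t_sq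
    have h2 := F.u_sq
    have h3 := F.tu_comm
    have h3' : u * t = t * u := h3.symm
    have m1 : t * (t * u) = u := by rw [← mul_assoc, h1, one_mul]
    have m3 : t * u * t = u := by rw [h3, mul_assoc, h1, mul_one]
    have m4 : t * u * u = t := by rw [mul_assoc, h2, mul_one]
    have m2 : u * (t * u) = t := by rw [← mul_assoc, h3', m4]
    have m5 : t * u * (t * u) = 1 := by rw [← mul_assoc, m3, h2]
    rcases ha with rfl | rfl | rfl | rfl <;> rcases hb with rfl | rfl | rfl | rfl <;>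
      simp only [one_mul, mul_one, h1, h2, h3', m1, m2, m3, m4, m5, Set.mem_insert_iff, Set.mem_singleton_iff,
        true_or, or_true]
  inv_mem' {a} ha := by
    have h1 : t⁻¹ = t := inv_eq_of_mul_eq_one_right F.t_sq
    have h2 : u⁻¹ = u := inv_eq_of_mul_eq_one_right F.u_sq
    rcases ha with rfl | rfl | rfl | rfl
    · rw [inv_one]; exact Or.inl rfl
    · rw [h1]; exact Or.inr (Or.inl rfl)
    · rw [h2]; exact Or.inr (Or.inr (Or.inl rfl))
    · rw [mul_inv_rev, h1, h2, ← F.tu_comm]; exact Or.inr (Or.inr (Or.inr rfl))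

theorem mem_E {y : G} : y ∈ F.E ↔ y = 1 ∨ y = t ∨ y = u ∨ y = t * u := F.t_cases

theorem tu_vec : vec Q (t * u) = S.C.M.e 10 := by
  rw [vec_mul F.t_mem F.u_mem, F.t_vec, F.u_vec, v10_eq]

theorem E_le : F.E ≤ QG Q := by
  intro y hy
  rcases F.mem_E.1 hy with rfl | rfl | rfl | rfl
  exacts [one_mem _, F.t_mem, F.u_mem, mul_mem F.t_mem F.u_mem]

theorem E_vec {y : G} (hy : y ∈ F.E) (h1 : y ≠ 1) :
    ∃ x, (x = 5 ∨ x = 10 ∨ x = 15) ∧ vec Q y = S.C.M.e x := by
  rcases F.mem_E.1 hy with rfl | rfl | rfl | rfl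
  · exact absurd rfl h1
  · exact ⟨15, by simp, F.t_vec⟩
  · exact ⟨5, by simp, F.u_vec⟩
  · exact ⟨10, by simp, F.tu_vec⟩

theorem E_nonconj {y : G} (hy : y ∈ F.E) (h1 : y ≠ 1) : ¬ IsConj z y := by
  obtain ⟨x, hx, hv⟩ := F.E_vec hy h1
  exact line_small F.type S hx (F.E_le hy) hv

theorem z_notMem : z ∉ F.E := fun h => F.E_nonconj h F.data.z_ne (IsConj.refl z)

theorem e_ne {x : ℕ} (hx : x = 5 ∨ x = 10 ∨ x = 15) : S.C.M.e x ≠ 0 := fun h => by
  rw [← S.C.M.zero] at h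
  have := S.C.M.inj x (by omega) 0 (by norm_num) h
  omega

theorem t_ne : t ≠ 1 := fun h => F.e_ne (x := 15) (by simp) (by rw [← F.t_vec, h, vec_one])

theorem u_ne : u ≠ 1 := fun h => F.e_ne (x := 5) (by simp) (by rw [← F.u_vec, h, vec_one])

theorem t_ne_u : t ≠ u := fun h => by
  have := S.C.M.inj 15 (by norm_num) 5 (by norm_num) (by rw [← F.t_vec, ← F.u_vec, h])
  norm_num at this

theorem E_card : Nat.card F.E = 4 := by
  rw [← SetLike.coe_sort_coe, Nat.card_coe_set_eq]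
  show ({1, t, u, t * u} : Set G).ncard = 4
  have h1 : t * u ≠ 1 := fun e => F.e_ne (x := 10) (by simp) (by rw [← F.tu_vec, e, vec_one])
  rw [Set.ncard_insert_of_notMem (by simp [F.t_ne.symm, F.u_ne.symm, h1.symm]) (Set.toFinite _),
    Set.ncard_insert_of_notMem (by simp [F.t_ne_u, F.u_ne]) (Set.toFinite _), Set.ncard_pair]
  exact fun e => F.t_ne (right_eq_mul.1 e)

theorem E_elem : Cfsg.IsElementaryAbelian 2 F.E := by
  have h1 := F.t_sq
  have h2 := F.u_sq
  have h3 : Commute t u := F.tu_comm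
  have hc : ∀ a ∈ F.E, ∀ b ∈ F.E, Commute a b := by
    intro a ha b hb
    have hu : ∀ b ∈ F.E, Commute t b ∧ Commute u b := fun b hb => by
      rcases F.mem_E.1 hb with rfl | rfl | rfl | rfl
      exacts [⟨Commute.one_right _, Commute.one_right _⟩, ⟨Commute.refl _, h3.symm⟩, ⟨h3, Commute.refl _⟩,
        ⟨(Commute.refl _).mul_right h3, h3.symm.mul_right (Commute.refl _)⟩]
    rcases F.mem_E.1 ha with rfl | rfl | rfl | rfl
    exacts [Commute.one_left _, (hu b hb).1, (hu b hb).2, (hu b hb).1.mul_left (hu b hb).2]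
  refine ⟨⟨⟨fun a b => Subtype.ext (hc a a.2 b b.2)⟩⟩, fun a ha => ?_⟩
  rcases F.mem_E.1 ha with rfl | rfl | rfl | rfl
  · exact one_pow 2
  · rw [pow_two, h1]
  · rw [pow_two, h2]
  · rw [h3.mul_pow, pow_two, pow_two, h1, h2, one_mul]

/-- Commuting with t and u is commuting with the four group. -/
theorem mem_cent {g : G} (h1 : Commute g t) (h2 : Commute g u) : g ∈ Subgroup.centralizer (F.E : Set G) := by
  rw [Subgroup.mem_centralizer_iff]
  intro y hy
  rcases F.mem_E.1 hy with rfl | rfl | rfl | rfl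
  exacts [by simp, h1.eq.symm, h2.eq.symm, (h1.mul_right h2).eq.symm]

/-- Adjusting by Q. -/
theorem adj {t' u' : G} (ht : t' ∈ QG Q) (hu : u' ∈ QG Q) (et : vec Q t' = S.C.M.e 15) (eu : vec Q u' = S.C.M.e 5) :
    ∃ r ∈ QG Q, r * t * r⁻¹ = t' ∧ r * u * r⁻¹ = u' := by
  classical
  have D := F.data
  set dt : ℕ := if t' = t then 0 else 1
  set du : ℕ := if u' = u then 0 else 1
  set x : ℕ := (if t' = t then 0 else 1) ^^^ (if u' = u then 0 else 3) with hx
  have hx4 : x < 4096 := by rw [hx]; split_ifs <;> decide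
  obtain ⟨r, hr, er⟩ := vec_surj (Q := Q) (S.C.M.e x)
  have hrz : r * z = z * r := QG_comm hr
  have key : ∀ {a a' : G}, a ∈ QG Q → a' ∈ QG Q → vec Q a' = vec Q a → ∀ y < 4096, vec Q a = S.C.M.e y →
      (bn x y = 0 ↔ a' = a) → r * a * r⁻¹ = a' := by
    intro a a' ha ha' hv y hy hay hb
    obtain ⟨hm, hm'⟩ := act_vec (Q := Q) hrz ha
    have hfix : act Q r (vec Q a) = vec Q a := by
      rw [(act_eq_one (exists_frame F.type).1 hrz).2 hr]; rfl
    have hcomm : r * a * r⁻¹ = a ↔ bn x y = 0 := by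
      rw [mul_inv_eq_iff_eq_mul, ← polar_eq_zero hr ha, er, hay, ← S.C.M.bn_polar hx4 hy]
      exact ⟨fun h => cast_inj_two (bn_lt _ _) (by norm_num) (h.trans Nat.cast_zero.symm),
        fun h => by rw [h, Nat.cast_zero]⟩
    rcases vec_eq D hm ha (hm'.symm.trans hfix) with e | e
    · rw [e]; exact ((hb.1 (hcomm.1 e))).symm
    · rcases vec_eq D ha' ha hv with k | k
      · have := hcomm.2 (hb.2 k)
        rw [this, k]
      · rw [e, k]
  obtain ⟨⟨b1, b2⟩, ⟨b3, b4⟩, -⟩ := duals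
  have hb0 : ∀ y, y = 15 ∨ y = 5 → bn 0 y = 0 ∧ bn 2 y = 1 := by
    rintro y (rfl | rfl) <;> decide +kernel
  refine ⟨r, hr, key F.t_mem ht (et.trans F.t_vec.symm) 15 (by norm_num) F.t_vec ?_,
    key F.u_mem hu (eu.trans F.u_vec.symm) 5 (by norm_num) F.u_vec ?_⟩
  all_goals
    rw [hx]
    split_ifs with h1 h2 h2 <;>
      simp [h1, h2, b1, b2, b3, b4, (hb0 15 (by simp)).1, (hb0 15 (by simp)).2, (hb0 5 (by simp)).1,
        (hb0 5 (by simp)).2]

/-- The centraliser of E in C(z) fixes the line. -/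
theorem act_mem_stab0 {g : G} (hg : g ∈ Subgroup.centralizer (F.E : Set G)) (hz : g * z = z * g) :
    act Q g ∈ stab0 S.C := by
  have fix : ∀ y ∈ F.E, act Q g (vec Q y) = vec Q y := fun y hy => by
    rw [(act_vec hz (F.E_le hy)).2, ← Subgroup.mem_centralizer_iff.1 hg y hy, mul_inv_cancel_right]
  refine ⟨act_mem hz, ?_, ?_⟩
  · rw [← F.t_vec]; exact fix t (F.mem_E.2 (by simp))
  · rw [← F.u_vec]; exact fix u (F.mem_E.2 (by simp))

/-- Any map moving the line to itself lifts to a normaliser element of E in C(z). -/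
theorem lift_map {γ : OutForm.Vm Q ≃ₗ[ZMod 2] OutForm.Vm Q} (hγ : γ ∈ (toGL Q).range) {t' u' : G}
    (ht : t' ∈ QG Q) (hu : u' ∈ QG Q) (et : vec Q t' = γ (S.C.M.e 15)) (eu : vec Q u' = γ (S.C.M.e 5)) :
    ∃ k, k * z = z * k ∧ act Q k = γ ∧ k * t * k⁻¹ = t' ∧ k * u * k⁻¹ = u' := by
  obtain ⟨c, hc⟩ := hγ
  set k : G := (c : G) with hk
  have hkz : k * z = z * k := Subgroup.mem_centralizer_singleton_iff.1 c.2
  have hka : act Q k = γ := by rw [hk, act_coe, hc]
  have hki : k⁻¹ * z = z * k⁻¹ := (Commute.inv_left hkz).eq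
  have pull : ∀ {a : G} {x : ℕ}, a ∈ QG Q → vec Q a = γ (S.C.M.e x) →
      k⁻¹ * a * k ∈ QG Q ∧ vec Q (k⁻¹ * a * k) = S.C.M.e x := by
    intro a x ha hv
    have h := act_vec (Q := Q) hki ha
    rw [inv_inv] at h
    refine ⟨h.1, ?_⟩
    rw [← h.2, act_inv hkz, hka, hv]
    exact γ.symm_apply_apply _
  obtain ⟨r, hr, e1, e2⟩ := F.adj (pull ht et).1 (pull hu eu).1 (pull ht et).2 (pull hu eu).2
  have hrz : r * z = z * r := QG_comm hr
  refine ⟨k * r, (Commute.mul_left hkz hrz).eq, ?_, ?_, ?_⟩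
  · rw [act_mul hkz hrz, (act_eq_one (exists_frame F.type).1 hrz).2 hr, hka, mul_one]
  · rw [show k * r * t * (k * r)⁻¹ = k * (r * t * r⁻¹) * k⁻¹ by group, e1]; group
  · rw [show k * r * u * (k * r)⁻¹ = k * (r * u * r⁻¹) * k⁻¹ by group, e2]; group

/-- Elements of the pointwise stabiliser lift to the centraliser. -/
theorem lift {γ : OutForm.Vm Q ≃ₗ[ZMod 2] OutForm.Vm Q} (hγ : γ ∈ stab0 S.C) :
    ∃ k, k * z = z * k ∧ k ∈ Subgroup.centralizer (F.E : Set G) ∧ act Q k = γ := by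
  obtain ⟨k, hk, ha, e1, e2⟩ := F.lift_map hγ.1 F.t_mem F.u_mem (by rw [F.t_vec, hγ.2.1]) (by rw [F.u_vec, hγ.2.2])
  exact ⟨k, hk, F.mem_cent (mul_inv_eq_iff_eq_mul.1 e1) (mul_inv_eq_iff_eq_mul.1 e2), ha⟩

end Four

end Cfsg.Agent.U62Fischer
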