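/-
The centraliser of the four group modulo it has an involution centraliser of the shape 2^{1+8}.SU(4,2),
the involution being weakly closed in the extraspecial group.

* `Four.C`, `Four.EC`, `Four.zC`, `Four.L`, `Four.zb` : the groups;
* `Four.rep_comm` : centralising the image is centralising z;
* `Four.exists_setup` : the setting for the recognition.
-/
import Cfsg.Agent.Lib.U62Fischer.Four
import Cfsg.Agent.Lib.U62Rec.Setup

set_option autoImplicit false
set_option maxRecDepth 100000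

namespace Cfsg.Agent.U62Fischer

open Cfsg.Agent.LargeFischer LargeExtraspecial
open Cfsg.Agent.U62Rec (K V4 U4 cardK)

universe u

variable {G : Type u} [Group G] [Finite G] {z : G} {Q : Subgroup (Subgroup.centralizer ({z} : Set G))}
  [Q.Normal] [hE : Fact (Cfsg.IsExtraspecial 2 Q)] {S : Setting z Q} {t u : G}

namespace Four

variable (F : Four S t u)

/-- The four group inside its centraliser. -/
def EC : Subgroup ↥(Subgroup.centralizer (F.E : Set G)) := F.E.subgroupOf (Subgroup.centralizer (F.E : Set G))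

instance EC_normal : F.EC.Normal := ⟨fun n hn g => by
  have h : (g : G) * (n : G) = (n : G) * (g : G) := (Subgroup.mem_centralizer_iff.1 g.2 _ hn).symm
  show (g : G) * (n : G) * (g : G)⁻¹ ∈ F.E
  rw [h, mul_inv_cancel_right]
  exact hn⟩

/-- The quotient. -/
abbrev L : Type u := ↥(Subgroup.centralizer (F.E : Set G)) ⧸ F.EC

/-- z in the centraliser. -/
def zC : ↥(Subgroup.centralizer (F.E : Set G)) := ⟨z, Subgroup.mem_centralizer_iff.2 fun y hy =>
  QG_comm (F.E_le hy)⟩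

/-- The image of z. -/
def zb : F.L := QuotientGroup.mk' F.EC F.zC

theorem mk_eq {g h : ↥(Subgroup.centralizer (F.E : Set G))} :
    QuotientGroup.mk' F.EC g = QuotientGroup.mk' F.EC h ↔ ∃ e ∈ F.E, (h : G) = g * e := by
  rw [QuotientGroup.mk'_eq_mk']
  constructor
  · rintro ⟨e, he, rfl⟩; exact ⟨e, he, rfl⟩
  · rintro ⟨e, he, h'⟩
    exact ⟨⟨e, Subgroup.mem_centralizer_iff.2 fun y hy => by
      have := F.E_elem.1
      exact congrArg Subtype.val (mul_comm' (⟨y, hy⟩ : F.E) ⟨e, he⟩)⟩, he, Subtype.ext h'.symm⟩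

/-- A conjugate of z congruent to it modulo the four group is z. -/
theorem eq_z {g : G} {e : G} (he : e ∈ F.E) (h : g * z * g⁻¹ = z * e) : e = 1 := by
  by_contra h1
  obtain ⟨x, hx, hv⟩ := F.E_vec he h1
  exact line_small F.type S hx (mul_mem F.data.z_mem (F.E_le he))
    (by rw [vec_mul F.data.z_mem (F.E_le he), vec_z F.data, zero_add, hv]) (isConj_iff.2 ⟨g, h⟩)

theorem rep_comm {g : ↥(Subgroup.centralizer (F.E : Set G))} :
    Commute (QuotientGroup.mk' F.EC g) F.zb ↔ (g : G) * z = z * g := by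
  constructor
  · intro h
    have h' : QuotientGroup.mk' F.EC (g * F.zC * g⁻¹) = QuotientGroup.mk' F.EC F.zC := by
      rw [map_mul, map_mul, map_inv]
      exact mul_inv_eq_iff_eq_mul.2 h.eq
    obtain ⟨e, he, hz⟩ := F.mk_eq.1 h'.symm
    change (g : G) * z * (g : G)⁻¹ = z * e at hz
    rw [F.eq_z he hz, mul_one] at hz
    exact mul_inv_eq_iff_eq_mul.1 hz
  · intro h
    show QuotientGroup.mk' F.EC g * QuotientGroup.mk' F.EC F.zC = QuotientGroup.mk' F.EC F.zC * QuotientGroup.mk' F.EC g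
    rw [← map_mul, ← map_mul]
    exact congrArg _ (Subtype.ext h)

theorem cent_line {a : G} (ha : a ∈ QG Q) (hc : a ∈ Subgroup.centralizer (F.E : Set G)) :
    orth (numOf S.C.M (vec Q a)) = true := by
  have hp : ∀ y ∈ F.E, QuadraticMap.polar (OutForm.qf Q) (vec Q y) (vec Q a) = 0 := fun y hy =>
    (polar_eq_zero (F.E_le hy) ha).2 (Subgroup.mem_centralizer_iff.1 hc y hy)
  exact orth_num _ (by rw [← F.t_vec]; exact hp t (F.mem_E.2 (by simp)))
    (by rw [← F.u_vec]; exact hp u (F.mem_E.2 (by simp)))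

theorem wOf_line {y : G} (hy : y ∈ F.E) : wOf S.C.M (vec Q y) = 0 := by
  by_cases h1 : y = 1
  · rw [h1, vec_one, ← S.C.M.zero]
    show wvec (numOf S.C.M _) = 0
    rw [numOf_e _ (by norm_num), wvec_zero]
  · obtain ⟨x, hx, hv⟩ := F.E_vec hy h1
    show wvec (numOf S.C.M _) = 0
    rw [hv, numOf_e _ (by omega)]
    exact (line4_spec x (by rcases hx with rfl | rfl | rfl <;> decide)).2.2

theorem act_E {y : G} (hy : y ∈ F.E) : act Q y = 1 :=
  (act_eq_one (exists_frame F.type).1 (QG_comm (F.E_le hy))).2 (F.E_le hy)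

/-- The map onto SU(4,2). -/
noncomputable def phiL (l : F.L) : U4 :=
  psi S.C (stab15_card F.type S) (act Q ((Quotient.out l : ↥(Subgroup.centralizer (F.E : Set G))) : G))

/-- The map onto the unitary space. -/
noncomputable def vecL (l : F.L) : V4 :=
  wOf S.C.M (vec Q ((Quotient.out l : ↥(Subgroup.centralizer (F.E : Set G))) : G))

theorem out_eq (g : ↥(Subgroup.centralizer (F.E : Set G))) :
    ∃ e ∈ F.E, ((Quotient.out (QuotientGroup.mk' F.EC g) : ↥(Subgroup.centralizer (F.E : Set G))) : G) = g * e :=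
  F.mk_eq.1 (Quotient.out_eq (QuotientGroup.mk' F.EC g)).symm

theorem phiL_mk {g : ↥(Subgroup.centralizer (F.E : Set G))} (hg : (g : G) * z = z * g) :
    F.phiL (QuotientGroup.mk' F.EC g) = psi S.C (stab15_card F.type S) (act Q (g : G)) := by
  obtain ⟨e, he, h⟩ := F.out_eq g
  unfold phiL
  rw [h, act_mul hg (QG_comm (F.E_le he)), F.act_E he, mul_one]

theorem vecL_mk {g : ↥(Subgroup.centralizer (F.E : Set G))} (hg : (g : G) ∈ QG Q) :
    F.vecL (QuotientGroup.mk' F.EC g) = wOf S.C.M (vec Q (g : G)) := by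
  obtain ⟨e, he, h⟩ := F.out_eq g
  unfold vecL
  rw [h, vec_mul hg (F.E_le he), wOf_add, F.wOf_line he, add_zero]

/-- The image of Q. -/
def JL : Subgroup F.L := ((QG Q).subgroupOf (Subgroup.centralizer (F.E : Set G))).map (QuotientGroup.mk' F.EC)

theorem mem_JL {g : ↥(Subgroup.centralizer (F.E : Set G))} :
    QuotientGroup.mk' F.EC g ∈ F.JL ↔ (g : G) ∈ QG Q := by
  refine ⟨fun ⟨h, hh, e⟩ => ?_, fun h => ⟨g, h, rfl⟩⟩
  obtain ⟨y, hy, h'⟩ := F.mk_eq.1 e
  rw [h']
  exact mul_mem hh (F.E_le hy)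

theorem zb_ne : F.zb ≠ 1 := by
  intro h
  rw [zb, ← map_one (QuotientGroup.mk' F.EC)] at h
  obtain ⟨e, he, h'⟩ := F.mk_eq.1 h
  change (1 : G) = z * e at h'
  have h'' := inv_mem he
  rw [inv_eq_of_mul_eq_one_left h'.symm] at h''
  exact F.z_notMem h''

theorem zb_ord : orderOf F.zb = 2 := by
  refine orderOf_eq_prime ?_ F.zb_ne
  rw [zb, ← map_pow, ← map_one (QuotientGroup.mk' F.EC)]
  exact congrArg _ (Subtype.ext (by
    show (F.zC : G) ^ 2 = 1
    rw [pow_two]; exact F.data.z_sq))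

theorem wc {g : ↥(Subgroup.centralizer (F.E : Set G))} (h : (g : G) * z * (g : G)⁻¹ ∈ QG Q) :
    (g : G) * z * (g : G)⁻¹ = z := by
  by_contra hne
  have T : Pt Q ((g : G) * z * (g : G)⁻¹) (g : G) := ⟨F.type, rfl, hne, h⟩
  have hW : ∀ y ∈ F.E, vec Q y ∈ Wsp Q (g : G) := fun y hy => mem_Wsp.2 ⟨y, F.E_le hy, by
    refine mem_conjS.2 ?_
    have := Subgroup.mem_centralizer_iff.1 g.2 y hy
    rw [mul_assoc, this, inv_mul_cancel_left]
    exact F.E_le hy, rfl⟩
  have Λ := line_setting F.type S T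
  have n15 : S.n (S.C.M.e 15) = S.C.M.e 5 := by rw [S.C.M.n_e 15 (by norm_num), duals.2.2.2.2.1]
  have n5 : S.n (S.C.M.e 5) = S.C.M.e 10 := by rw [S.C.M.n_e 5 (by norm_num), duals.2.2.2.2.2.1]
  have h1 := Λ.inter (w := S.C.M.e 15) (by rw [← F.t_vec]; exact hW t (F.mem_E.2 (by simp)))
    (by rw [n15, ← F.u_vec]; exact hW u (F.mem_E.2 (by simp)))
  have hinj := S.n.injective
  have hbad : ∀ x, (x = 5 ∨ x = 10 ∨ x = 15) → vec Q ((g : G) * z * (g : G)⁻¹) ≠ S.C.M.e x := fun x hx hv =>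
    line_small F.type S hx h hv (isConj_iff.2 ⟨_, rfl⟩)
  set v := vec Q ((g : G) * z * (g : G)⁻¹)
  rcases h1 with e | e | e | e
  · exact F.e_ne (x := 15) (by simp) e
  · exact hbad 15 (by simp) e.symm
  · refine hbad 10 (by simp) (hinj ?_)
    rw [← e, S.C.M.n_e 10 (by norm_num), show nmul 10 = 15 by decide +kernel]
  · refine hbad 5 (by simp) (hinj (hinj ?_))
    rw [n_sum F.type S, ← e, n5, S.C.M.n_e 10 (by norm_num), show nmul 10 = 15 by decide +kernel]

/-- The setting for the recognition. -/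
theorem exists_setup : Nonempty (U62Rec.Setup F.zb) := by
  have hk := (exists_frame F.type).1
  have hc := stab15_card F.type S
  have D := F.data
  have surj := QuotientGroup.mk'_surjective F.EC
  refine ⟨{
    J := F.JL
    φ := F.phiL
    vec := F.vecL
    z_ord := F.zb_ord
    z_mem := F.mem_JL.2 D.z_mem
    J_le := fun j hj => ?_
    φ_mul := fun l m hl hm => ?_
    φ_ker := fun l hl => ?_
    φ_surj := fun a => ?_
    vec_mul := fun i hi j hj => ?_
    vec_surj := fun w => ?_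
    vec_ker := fun j hj hv => ?_
    vec_z := ?_
    sq_one := fun j hj hv => ?_
    sq_z := fun j hj hv => ?_
    vec_conj := fun l hl j hj => ?_
    wc := fun l hl => ?_ }⟩
  · obtain ⟨g, rfl⟩ := surj j
    exact F.rep_comm.2 (QG_comm (F.mem_JL.1 hj))
  · obtain ⟨g, rfl⟩ := surj l
    obtain ⟨h, rfl⟩ := surj m
    have h1 := F.rep_comm.1 hl
    have h2 := F.rep_comm.1 hm
    rw [← map_mul, F.phiL_mk h1, F.phiL_mk h2, F.phiL_mk (g := g * h) (Commute.mul_left h1 h2).eq,
      ← psi_mul S.C hc (F.act_mem_stab0 g.2 h1) (F.act_mem_stab0 h.2 h2), ← act_mul h1 h2]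
    rfl
  · obtain ⟨g, rfl⟩ := surj l
    have h1 := F.rep_comm.1 hl
    rw [F.phiL_mk h1, psi_eq_one S.C hc (F.act_mem_stab0 g.2 h1), act_eq_one hk h1, F.mem_JL]
  · obtain ⟨γ, hγ, rfl⟩ := psi_surj S.C hc a
    obtain ⟨k, hkz, hkC, rfl⟩ := F.lift hγ
    exact ⟨QuotientGroup.mk' F.EC ⟨k, hkC⟩, F.rep_comm.2 hkz, F.phiL_mk hkz⟩
  · obtain ⟨g, rfl⟩ := surj i
    obtain ⟨h, rfl⟩ := surj j
    have h1 := F.mem_JL.1 hi
    have h2 := F.mem_JL.1 hj
    rw [← map_mul, F.vecL_mk h1, F.vecL_mk h2, F.vecL_mk (g := g * h) (mul_mem h1 h2), Subgroup.coe_mul,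
      vec_mul h1 h2, wOf_add]
  · obtain ⟨x, hx, ho, rfl⟩ := exists_orth w
    obtain ⟨a, ha, hv⟩ := vec_surj (Q := Q) (S.C.M.e x)
    have ho' : bn 15 x = 0 ∧ bn 5 x = 0 := by
      have := ho
      simp only [orth, orthn, Bool.and_eq_true, Nat.beq_eq, duals.2.2.2.2.1] at this
      exact this
    have hat : Commute a t := (polar_eq_zero ha F.t_mem).1 (by
      rw [hv, F.t_vec, polar_comm' (S.C.M.e x), ← S.C.M.bn_polar (by norm_num) hx, ho'.1, Nat.cast_zero])
    have hau : Commute a u := (polar_eq_zero ha F.u_mem).1 (by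
      rw [hv, F.u_vec, polar_comm' (S.C.M.e x), ← S.C.M.bn_polar (by norm_num) hx, ho'.2, Nat.cast_zero])
    refine ⟨QuotientGroup.mk' F.EC ⟨a, F.mem_cent hat hau⟩, F.mem_JL.2 ha, ?_⟩
    rw [F.vecL_mk (g := ⟨a, F.mem_cent hat hau⟩) ha]
    show wvec (numOf S.C.M (vec Q a)) = _
    rw [hv, numOf_e _ hx]
  · obtain ⟨g, rfl⟩ := surj j
    have h1 := F.mem_JL.1 hj
    rw [F.vecL_mk h1] at hv
    have hline := ((orth_spec (numOf_spec _ _).1 (F.cent_line h1 g.2)).2.1).2 hv
    obtain ⟨y, hy, hyv⟩ : ∃ y ∈ F.E, vec Q (g : G) = vec Q y := by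
      have hval : ∀ x, numOf S.C.M (vec Q (g : G)) = x → vec Q (g : G) = S.C.M.e x := fun x h => by
        rw [← h, (numOf_spec _ _).2]
      simp only [line4, List.mem_cons, List.not_mem_nil, or_false] at hline
      rcases hline with e | e | e | e
      · exact ⟨1, one_mem _, by rw [hval _ e, vec_one, S.C.M.zero]⟩
      · exact ⟨u, F.mem_E.2 (by simp), by rw [hval _ e, F.u_vec]⟩
      · exact ⟨t * u, F.mem_E.2 (by simp), by rw [hval _ e, F.tu_vec]⟩
      · exact ⟨t, F.mem_E.2 (by simp), by rw [hval _ e, F.t_vec]⟩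
    rcases vec_eq D h1 (F.E_le hy) hyv with e | e
    · refine Or.inl ((QuotientGroup.eq_one_iff g).2 ?_)
      show (g : G) ∈ F.E
      rw [e]; exact hy
    · refine Or.inr (F.mk_eq.2 ⟨y, hy, ?_⟩).symm
      show (g : G) = (F.zC : G) * y
      rw [e]
      exact QG_comm (F.E_le hy)
  · show F.vecL (QuotientGroup.mk' F.EC F.zC) = 0
    rw [F.vecL_mk (g := F.zC) D.z_mem, show ((F.zC : G)) = z from rfl, vec_z D]
    show wvec (numOf S.C.M 0) = 0
    rw [← S.C.M.zero, numOf_e _ (by norm_num), wvec_zero]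
  · obtain ⟨g, rfl⟩ := surj j
    have h1 := F.mem_JL.1 hj
    rw [F.vecL_mk h1] at hv
    have hq := (wvec_norm (numOf_spec _ _).1 (F.cent_line h1 g.2)).1 hv
    rw [← map_mul, ← map_one (QuotientGroup.mk' F.EC)]
    refine congrArg _ (Subtype.ext ?_)
    show (g : G) * g = 1
    exact (qf_eq_zero h1).1 (by rw [q_num S.C.M, hq, Nat.cast_zero])
  · obtain ⟨g, rfl⟩ := surj j
    have h1 := F.mem_JL.1 hj
    rw [F.vecL_mk h1] at hv
    rw [← map_mul]
    refine congrArg _ (Subtype.ext ?_)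
    show (g : G) * g = z
    refine (vec_eq_zero D (mul_mem h1 h1) (by rw [vec_mul h1 h1, ZModModule.add_self])).resolve_left fun e => hv ?_
    refine (wvec_norm (numOf_spec _ _).1 (F.cent_line h1 g.2)).2 ?_
    have hq := (qf_eq_zero h1).2 e
    rw [q_num S.C.M] at hq
    exact cast_inj_two (qn_lt _) (by norm_num) (hq.trans Nat.cast_zero.symm)
  · obtain ⟨g, rfl⟩ := surj l
    obtain ⟨h, rfl⟩ := surj j
    have h1 := F.rep_comm.1 hl
    have h2 := F.mem_JL.1 hj
    obtain ⟨hm, hv⟩ := act_vec (Q := Q) h1 h2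
    rw [← map_inv, ← map_mul, ← map_mul]
    refine ⟨F.mem_JL.2 hm, ?_⟩
    rw [F.phiL_mk h1, F.vecL_mk h2, F.vecL_mk (g := g * h * g⁻¹) hm]
    show wOf S.C.M (vec Q ((g : G) * h * (g : G)⁻¹)) = _
    rw [← hv]
    show wvec (numOf S.C.M _) = _
    rw [numOf_map]
    exact (psi_spec S.C hc (F.act_mem_stab0 g.2 h1) (numOf_spec _ _).1 (F.cent_line h2 h.2)).symm
  · obtain ⟨g, rfl⟩ := surj l
    rw [zb, ← map_inv, ← map_mul, ← map_mul] at hl ⊢
    exact congrArg _ (Subtype.ext (F.wc (F.mem_JL.1 hl)))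

end Four

end Cfsg.Agent.U62Fischer
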