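/-
Some conjugate of z under the centraliser of the four group commutes with z and is different from z: two
conjugates of z in the subgroup of order 2^11 share a four group.

* `line_map` : the maps of the line;
* `Four.exists_adata` : the four group lies in a subgroup of order 2^11 through z;
* `Four.exists_fused` : the fusion.
-/
import Cfsg.Agent.Lib.U62Fischer.Quot
import Cfsg.Agent.Lib.LargeFischer.Points
import Cfsg.Agent.Lib.LargeFischer.ZClass

set_option autoImplicit false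
set_option maxRecDepth 100000

namespace Cfsg.Agent.U62Fischer

open Cfsg.Agent.LargeFischer LargeExtraspecial Golay

universe u

variable {G : Type u} [Group G] [Finite G] {z : G} {Q : Subgroup (Subgroup.centralizer ({z} : Set G))}
  [Q.Normal] [hE : Fact (Cfsg.IsExtraspecial 2 Q)] {S : Setting z Q} {t u : G}

theorem line_map (hF : Cfsg.IsOfLargeFischerTypeAt z Q) (S : Setting z Q) {x y : ℕ}
    (hx : x = 5 ∨ x = 10 ∨ x = 15) (hy : y = 5 ∨ y = 10 ∨ y = 15) (hne : x ≠ y) :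
    ∃ γ ∈ (toGL Q).range, γ (S.C.M.e 15) = S.C.M.e x ∧ γ (S.C.M.e 5) = S.C.M.e y := by
  obtain ⟨σ, hσ, s15, s5⟩ := exists_swap_line S.C (stab15_card hF S)
  have n15 : S.n (S.C.M.e 15) = S.C.M.e 5 := by rw [S.C.M.n_e 15 (by norm_num), duals.2.2.2.2.1]
  have n5 : S.n (S.C.M.e 5) = S.C.M.e 10 := by rw [S.C.M.n_e 5 (by norm_num), duals.2.2.2.2.2.1]
  have n10 : S.n (S.C.M.e 10) = S.C.M.e 15 := by
    rw [S.C.M.n_e 10 (by norm_num), show nmul 10 = 15 by decide +kernel]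
  have hn := S.n_mem
  rcases hx with rfl | rfl | rfl <;> rcases hy with rfl | rfl | rfl <;> try exact absurd rfl hne
  · exact ⟨S.n, hn, n15, n5⟩
  · exact ⟨S.n * σ, mul_mem hn hσ, by show S.n (σ _) = _; rw [s15, n15], by show S.n (σ _) = _; rw [s5, n10]⟩
  · exact ⟨S.n * (S.n * σ), mul_mem hn (mul_mem hn hσ), by show S.n (S.n (σ _)) = _; rw [s15, n15, n5],
      by show S.n (S.n (σ _)) = _; rw [s5, n10, n15]⟩
  · exact ⟨S.n * S.n, mul_mem hn hn, by show S.n (S.n _) = _; rw [n15, n5],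
      by show S.n (S.n _) = _; rw [n5, n10]⟩
  · exact ⟨1, one_mem _, rfl, rfl⟩
  · exact ⟨σ, hσ, s15, s5⟩

/-- Three points give three pairs. -/
def triSet {A : Subgroup G} (D : AData z A) (s : Finset Cfsg.GolayPt) : Set G :=
  {a | ∃ p ∈ s, ∃ q ∈ s, p ≠ q ∧ a = D.pairEl p q}

theorem tri_mem {A : Subgroup G} (D : AData z A) {x y : G} (hx : x ∈ A) (hy : y ∈ A) (hx1 : x ≠ 1) (hy1 : y ≠ 1)
    (hxy : x * y ≠ 1) (hxz : ¬ IsConj z x) (hyz : ¬ IsConj z y) (hxyz : ¬ IsConj z (x * y)) :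
    ∃ s : Finset Cfsg.GolayPt, s.card = 3 ∧ ({x, y, x * y} : Set G) = triSet D s := by
  classical
  obtain ⟨p, q, hpq, rfl⟩ := D.exists_pair hx hx1 hxz
  obtain ⟨r, w, hrw, rfl⟩ := D.exists_pair hy hy1 hyz
  obtain ⟨hcom, hns⟩ := (D.meet_iff hpq hrw).2 ⟨hxy, hxyz⟩
  have norm : ∃ a b c, a ≠ b ∧ a ≠ c ∧ b ≠ c ∧ D.pairEl p q = D.pairEl a b ∧ D.pairEl r w = D.pairEl a c := by
    rcases hcom with e | e | e | e <;> subst e
    · exact ⟨p, q, w, hpq, hrw, fun e => hns (Or.inl ⟨rfl, e⟩), rfl, rfl⟩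
    · exact ⟨p, q, r, hpq, hrw.symm, fun e => hns (Or.inr ⟨rfl, e⟩), rfl, D.pairEl_comm _ _⟩
    · exact ⟨q, p, w, hpq.symm, hrw, fun e => hns (Or.inr ⟨e, rfl⟩), D.pairEl_comm _ _, rfl⟩
    · exact ⟨q, p, r, hpq.symm, hrw.symm, fun e => hns (Or.inl ⟨e, rfl⟩), D.pairEl_comm _ _, D.pairEl_comm _ _⟩
  obtain ⟨a, b, c, hab, hac, hbc, e1, e2⟩ := norm
  rw [e1, e2]
  have e3 : D.pairEl a b * D.pairEl a c = D.pairEl b c := by
    rw [D.mul_pairEl]
    unfold AData.pairEl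
    congr 1
    show (tauI (idx a) ^^^ tauI (idx b)) ^^^ (tauI (idx a) ^^^ tauI (idx c)) = tauI (idx b) ^^^ tauI (idx c)
    rw [Nat.xor_comm (tauI (idx a)) (tauI (idx b)), Nat.xor_assoc, ← Nat.xor_assoc (tauI (idx a)), Nat.xor_self,
      Nat.zero_xor]
  rw [e3]
  refine ⟨{a, b, c}, Finset.card_eq_three.2 ⟨a, b, c, hab, hac, hbc, rfl⟩, Set.ext fun g => ⟨?_, ?_⟩⟩
  · rintro (rfl | rfl | rfl)
    exacts [⟨a, by simp, b, by simp, hab, rfl⟩, ⟨a, by simp, c, by simp, hac, rfl⟩, ⟨b, by simp, c, by simp, hbc, rfl⟩]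
  · rintro ⟨i, hi, j, hj, hij, rfl⟩
    simp only [Finset.mem_insert, Finset.mem_singleton] at hi hj
    rcases hi with rfl | rfl | rfl <;> rcases hj with rfl | rfl | rfl <;>
      first
        | exact absurd rfl hij
        | exact Or.inl rfl | exact Or.inr (Or.inl rfl) | exact Or.inr (Or.inr rfl)
        | exact Or.inl (D.pairEl_comm _ _) | exact Or.inr (Or.inl (D.pairEl_comm _ _))
        | exact Or.inr (Or.inr (D.pairEl_comm _ _))

namespace Four

variable (F : Four S t u)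
include F

theorem exists_adata : ∃ A : Subgroup G, Nonempty (AData z A) ∧ z ∈ A ∧ t ∈ A ∧ u ∈ A ∧
    QG Q ≤ Subgroup.normalizer (A : Set G) := by
  classical
  have hF := F.type
  obtain ⟨L, hL⟩ := S.classify_A hF
  obtain ⟨el, hmem, hsurj, hinj, hadd, hcls⟩ := S.exists_linear hF L hL
  have D : AData z S.groupG := ⟨el, hmem, hsurj, hinj, hadd, hcls, fun a ha ia b hb ib => by
    obtain ⟨y₁, hy₁, e₁⟩ := S.exists_mover hF ha ia
    obtain ⟨y₂, hy₂, e₂⟩ := S.exists_mover hF hb ib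
    refine ⟨y₂ * y₁⁻¹, mul_mem hy₂ (inv_mem hy₁), ?_⟩
    rw [← e₁, ← e₂]; simp [mul_assoc], S.cent_groupG hF L hL, S.card_normalizer_G hF L hL⟩
  have h1455 : qn 1455 = 0 ∧ inSmall 0 1455 = true ∧
      ([1455, nmul 1455, nmul (nmul 1455)].all fun x => (List.range 64).any fun m => Nat.beq (wv m) x) = true := by
    decide +kernel
  obtain ⟨γ, hγ, e15⟩ := (stab_type hF).2 (S.C.M.e 15) (S.C.M.e 1455) (F.e_ne (by simp))
    (by rw [S.C.M.q_e 15 (by norm_num), duals.2.2.1, Nat.cast_zero])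
    (fun h => by rw [← S.C.M.zero] at h; exact absurd (S.C.M.inj 1455 (by norm_num) 0 (by norm_num) h) (by norm_num))
    (by rw [S.C.M.q_e 1455 (by norm_num), h1455.1, Nat.cast_zero])
    ((stab15_card hF S).trans (by rw [S.stab_card 1455 (by norm_num) (by norm_num) h1455.1, h1455.2.1]; rfl))
  obtain ⟨c, hc⟩ := hγ
  set h : G := (c : G)
  have hz : h * z = z * h := Subgroup.mem_centralizer_singleton_iff.1 c.2
  have hha : act Q h = γ := by rw [act_coe, hc]
  have hmemA : ∀ {a : G}, a ∈ QG Q → (∃ m < 64, S.C.M.e (wv m) = vec Q a) → a ∈ S.groupG := by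
    intro a ha hv
    obtain ⟨p, rfl⟩ := exists_coe ha
    rw [vec_coe] at hv
    exact ⟨_, S.groupD_le (S.mem_groupD.2 (mem_wSet.2 hv)) hF, rfl⟩
  have h5 : ∃ m < 64, S.C.M.e (wv m) = γ (S.C.M.e 5) := by
    rw [show S.C.M.e 5 = S.n (S.C.M.e 15) by rw [S.C.M.n_e 15 (by norm_num), duals.2.2.2.2.1]]
    have h3 := h1455.2.2
    simp only [List.all_cons, List.all_nil, Bool.and_true, Bool.and_eq_true, List.any_eq_true, List.mem_range,
      Nat.beq_eq] at h3
    rcases n_normal hF S (show γ ∈ (toGL Q).range from ⟨c, hc⟩) with k | k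
    · obtain ⟨m, hm, em⟩ := h3.2.1
      exact ⟨m, hm, by rw [k, e15, S.C.M.n_e 1455 (by norm_num), em]⟩
    · obtain ⟨m, hm, em⟩ := h3.2.2
      exact ⟨m, hm, by rw [k, e15, S.C.M.n_e 1455 (by norm_num), S.C.M.n_e _ (nmul_lt' (by norm_num)), em]⟩
  have h15 : ∃ m < 64, S.C.M.e (wv m) = γ (S.C.M.e 15) := by
    have h3 := h1455.2.2
    simp only [List.all_cons, List.all_nil, Bool.and_true, Bool.and_eq_true, List.any_eq_true, List.mem_range,
      Nat.beq_eq] at h3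
    obtain ⟨m, hm, em⟩ := h3.1
    exact ⟨m, hm, by rw [e15, em]⟩
  obtain ⟨mt, et⟩ := act_vec (Q := Q) hz F.t_mem
  obtain ⟨mu, eu⟩ := act_vec (Q := Q) hz F.u_mem
  rw [hha, F.t_vec] at et
  rw [hha, F.u_vec] at eu
  obtain ⟨D'⟩ := D.conj h⁻¹
  have back : ∀ {a : G}, h * a * h⁻¹ ∈ S.groupG → a ∈ S.groupG.map (MulAut.conj h⁻¹).toMonoidHom :=
    fun {a} ha => ⟨_, ha, by simp [mul_assoc]⟩
  obtain ⟨T, -, hQT, hAT, huniq, -⟩ := S.sylow_facts hF
  have hnorm : ∀ q ∈ QG Q, ∀ a ∈ S.groupG, q * a * q⁻¹ ∈ S.groupG := by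
    rintro _ ⟨c', hc', rfl⟩ _ ⟨a, ha, rfl⟩
    have hAc : Nat.card (S.groupA.map (MulAut.conj c').toMonoidHom) = 2 ^ 11 := by
      rw [← S.groupA_card hF]
      exact (Nat.card_congr (Subgroup.equivMapOfInjective _ _ (MulAut.conj c').injective).toEquiv).symm
    have e := huniq _ (by
        rintro _ ⟨b, hb, rfl⟩
        exact mul_mem (mul_mem (hQT hc') (hAT hb)) (inv_mem (hQT hc')))
      (by
        rintro _ ⟨b, hb, rfl⟩
        rw [← map_mul, S.groupA_sq hF hb, map_one]) hAc.ge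
    exact ⟨c' * a * c'⁻¹, e.le ⟨a, ha, rfl⟩, rfl⟩
  refine ⟨_, ⟨D'⟩, back ?_, back (hmemA mt (by rw [← et]; exact h15)), back (hmemA mu (by rw [← eu]; exact h5)),
    fun q hq => Subgroup.mem_normalizer_fintype ?_⟩
  · rw [hz, mul_inv_cancel_right]
    exact S.z_mem_groupG hF
  · rintro _ ⟨a, ha, rfl⟩
    refine back ?_
    have hq' := (act_vec (Q := Q) hz hq).1
    have e : h * (q * (MulAut.conj h⁻¹).toMonoidHom a * q⁻¹) * h⁻¹ = (h * q * h⁻¹) * a * (h * q * h⁻¹)⁻¹ := by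
      show h * (q * (h⁻¹ * a * h⁻¹⁻¹) * q⁻¹) * h⁻¹ = _
      group
    rw [e]
    exact hnorm _ hq' a ha

omit F in
/-- The three involutions. -/
def tset (_ : Four S t u) : Set G := {t, u, t * u}

theorem tset_iff {y : G} : y ∈ F.tset ↔ y ∈ F.E ∧ y ≠ 1 := by
  constructor
  · rintro (rfl | rfl | rfl)
    exacts [⟨F.mem_E.2 (by simp), F.t_ne⟩, ⟨F.mem_E.2 (by simp), F.u_ne⟩,
      ⟨F.mem_E.2 (by simp), fun e => F.e_ne (x := 10) (by simp) (by rw [← F.tu_vec, e, vec_one])⟩]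
  · rintro ⟨h, h1⟩
    rcases F.mem_E.1 h with rfl | rfl | rfl | rfl
    exacts [absurd rfl h1, Or.inl rfl, Or.inr (Or.inl rfl), Or.inr (Or.inr rfl)]

/-- A conjugate of z under the centraliser of the four group commutes with z and differs from z. -/
theorem exists_fused : ∃ g ∈ Subgroup.centralizer (F.E : Set G),
    Commute (g * z * g⁻¹) z ∧ g * z * g⁻¹ ≠ z := by
  classical
  obtain ⟨A, ⟨D⟩, hzA, htA, huA, -⟩ := F.exists_adata
  have hF := F.type
  have hD := F.data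
  have hz1 : z ≠ 1 := hD.z_ne
  set X : Set G := {a | a ∈ A ∧ IsConj z a} with hX
  have hXc : X.ncard = 1771 := D.card_zclass hz1
  have hm : ∀ a : G, ∃ m, a ∈ X → m ∈ Subgroup.normalizer (A : Set G) ∧ m * z * m⁻¹ = a := by
    intro a
    by_cases ha : a ∈ X
    · obtain ⟨m, hm, e⟩ := D.mover z hzA (IsConj.refl z) a ha.1 ha.2
      exact ⟨m, fun _ => ⟨hm, e⟩⟩
    · exact ⟨1, fun h => absurd h ha⟩
  choose m hm using hm
  have htz : vec Q (t * z) = S.C.M.e 15 := by rw [vec_mul F.t_mem hD.z_mem, F.t_vec, vec_z hD, add_zero]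
  obtain ⟨r, hr, er1, er2⟩ := F.adj (mul_mem F.t_mem hD.z_mem) F.u_mem htz F.u_vec
  have hrz : r * z = z * r := QG_comm hr
  let k : G × Bool → G := fun p => if p.2 then m p.1 * r else m p.1
  have kz : ∀ p, p.1 ∈ X → k p * z * (k p)⁻¹ = p.1 := by
    rintro ⟨a, b⟩ ha
    cases b
    · exact (hm a ha).2
    · show m a * r * z * (m a * r)⁻¹ = a
      rw [show m a * r * z * (m a * r)⁻¹ = m a * (r * z * r⁻¹) * (m a)⁻¹ by group, hrz, mul_inv_cancel_right]
      exact (hm a ha).2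
  have kA : ∀ p, p.1 ∈ X → k p * t * (k p)⁻¹ ∈ A ∧ k p * u * (k p)⁻¹ ∈ A := by
    rintro ⟨a, b⟩ ha
    have hN := Subgroup.mem_normalizer_iff.1 (hm a ha).1
    cases b
    · exact ⟨(hN t).1 htA, (hN u).1 huA⟩
    · refine ⟨?_, ?_⟩
      · show m a * r * t * (m a * r)⁻¹ ∈ A
        rw [show m a * r * t * (m a * r)⁻¹ = m a * (r * t * r⁻¹) * (m a)⁻¹ by group, er1]
        exact (hN _).1 (mul_mem htA hzA)
      · show m a * r * u * (m a * r)⁻¹ ∈ A
        rw [show m a * r * u * (m a * r)⁻¹ = m a * (r * u * r⁻¹) * (m a)⁻¹ by group, er2]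
        exact (hN _).1 huA
  let img : G × Bool → Set G := fun p => (fun y => k p * y * (k p)⁻¹) '' F.tset
  set P : Set (G × Bool) := X ×ˢ Set.univ with hP
  set T : Finset (Set G) := ((Finset.univ : Finset Cfsg.GolayPt).powersetCard 3).image (triSet D) with hT
  have hmaps : ∀ p ∈ P, img p ∈ (T : Set (Set G)) := by
    rintro p ⟨hp, -⟩
    have key : ∀ y ∈ F.tset, k p * y * (k p)⁻¹ ≠ 1 ∧ ¬ IsConj z (k p * y * (k p)⁻¹) := fun y hy =>
      ⟨fun e => (F.tset_iff.1 hy).2 (conj_eq_one_iff.1 e),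
        fun e => F.E_nonconj (F.tset_iff.1 hy).1 (F.tset_iff.1 hy).2 ((AData.class_conj (k p) y).1 e)⟩
    have e3 : k p * t * (k p)⁻¹ * (k p * u * (k p)⁻¹) = k p * (t * u) * (k p)⁻¹ := by group
    obtain ⟨k1, k2⟩ := key t (Or.inl rfl)
    obtain ⟨k3, k4⟩ := key u (Or.inr (Or.inl rfl))
    obtain ⟨k5, k6⟩ := key (t * u) (Or.inr (Or.inr rfl))
    obtain ⟨s, hs, es⟩ := tri_mem D (kA p hp).1 (kA p hp).2 k1 k3 (by rw [e3]; exact k5) k2 k4 (by rw [e3]; exact k6)
    refine Finset.mem_coe.2 (Finset.mem_image.2 ⟨s, Finset.mem_powersetCard.2 ⟨Finset.subset_univ _, hs⟩, ?_⟩)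
    rw [← es, e3]
    show _ = (fun y => k p * y * (k p)⁻¹) '' ({t, u, t * u} : Set G)
    rw [Set.image_insert_eq, Set.image_insert_eq, Set.image_singleton]
  have hlt : (T : Set (Set G)).ncard < P.ncard := by
    rw [Set.ncard_coe_finset, hP, Set.ncard_prod, hXc, Set.ncard_univ, Nat.card_eq_fintype_card, Fintype.card_bool]
    refine lt_of_le_of_lt Finset.card_image_le ?_
    rw [Finset.card_powersetCard, Finset.card_univ]
    decide
  obtain ⟨p, hp, p', hp', hne, heq⟩ := Set.exists_ne_map_eq_of_ncard_lt_of_maps_to hlt hmaps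
  -- different conjugates
  have hab : p.1 ≠ p'.1 := by
    intro e
    have hb : p.2 ≠ p'.2 := fun e' => hne (Prod.ext e e')
    have hnot : t ∉ (fun y => r * y * r⁻¹) '' F.tset := by
      rintro ⟨y, hy, ey⟩
      rcases hy with rfl | rfl | rfl
      · change r * y * r⁻¹ = y at ey
        rw [er1] at ey
        exact hz1 (mul_eq_left.1 ey)
      · change r * y * r⁻¹ = t at ey
        rw [er2] at ey
        exact F.t_ne_u ey.symm
      · change r * (t * u) * r⁻¹ = t at ey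
        rw [show r * (t * u) * r⁻¹ = (r * t * r⁻¹) * (r * u * r⁻¹) by group, er1, er2, mul_assoc, mul_eq_left] at ey
        have h2 : u⁻¹ = u := inv_eq_of_mul_eq_one_right F.u_sq
        have hzu : z = u := by rw [eq_inv_of_mul_eq_one_left ey, h2]
        exact F.E_nonconj (F.mem_E.2 (Or.inr (Or.inr (Or.inl rfl)))) F.u_ne (hzu ▸ IsConj.refl z)
    obtain ⟨a, b⟩ := p
    obtain ⟨a', b'⟩ := p'
    have e : a = a' := e
    have hb : b ≠ b' := hb
    subst e
    have key : (fun y => m a * y * (m a)⁻¹) '' F.tset =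
        (fun y => m a * y * (m a)⁻¹) '' ((fun y => r * y * r⁻¹) '' F.tset) := by
      have conv' : (fun y => m a * r * y * (m a * r)⁻¹) '' F.tset =
          (fun y => m a * y * (m a)⁻¹) '' ((fun y => r * y * r⁻¹) '' F.tset) := by
        rw [Set.image_image]
        exact Set.image_congr fun y _ => by group
      cases b <;> cases b' <;> first | exact absurd rfl hb | skip
      · exact heq.trans conv'
      · exact heq.symm.trans conv'
    have := Set.image_injective.2 (fun x y h => mul_left_cancel (mul_right_cancel h)) key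
    exact hnot (this ▸ Or.inl rfl)
  -- move back
  set g0 := (k p)⁻¹ * k p' with hg0
  have hmapE : ∀ y ∈ F.tset, g0 * y * g0⁻¹ ∈ F.tset := by
    intro y hy
    obtain ⟨y', hy', e⟩ := (show k p' * y * (k p')⁻¹ ∈ img p from heq.symm ▸ ⟨y, hy, rfl⟩)
    have : g0 * y * g0⁻¹ = y' := by
      rw [hg0, show (k p)⁻¹ * k p' * y * ((k p)⁻¹ * k p')⁻¹ = (k p)⁻¹ * (k p' * y * (k p')⁻¹) * k p by group,
        ← show k p * y' * (k p)⁻¹ = _ from e]
      group
    rw [this]; exact hy'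
  set t' := g0 * t * g0⁻¹
  set u' := g0 * u * g0⁻¹
  obtain ⟨ht1, ht2⟩ := F.tset_iff.1 (hmapE t (Or.inl rfl))
  obtain ⟨hu1, hu2⟩ := F.tset_iff.1 (hmapE u (Or.inr (Or.inl rfl)))
  obtain ⟨x, hx, ex⟩ := F.E_vec ht1 ht2
  obtain ⟨y, hy, ey⟩ := F.E_vec hu1 hu2
  have hxy : x ≠ y := by
    intro e
    subst e
    rcases vec_eq hD (F.E_le ht1) (F.E_le hu1) (ex.trans ey.symm) with h | h
    · exact F.t_ne_u (mul_left_cancel (mul_right_cancel h))
    · have h5 : u'⁻¹ * t' = z := inv_mul_eq_iff_eq_mul.2 h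
      have h6 := mul_mem (inv_mem hu1) ht1
      rw [h5] at h6
      exact F.z_notMem h6
  obtain ⟨γ, hγ, g15, g5⟩ := line_map hF S hx hy hxy
  obtain ⟨h, hhz, -, eh1, eh2⟩ := F.lift_map hγ (F.E_le ht1) (F.E_le hu1) (ex.trans g15.symm) (ey.trans g5.symm)
  refine ⟨h⁻¹ * g0, F.mem_cent ?_ ?_, ?_⟩
  · refine mul_inv_eq_iff_eq_mul.1 ?_
    calc h⁻¹ * g0 * t * (h⁻¹ * g0)⁻¹ = h⁻¹ * (g0 * t * g0⁻¹) * h := by group
      _ = h⁻¹ * (h * t * h⁻¹) * h := by rw [eh1]
      _ = t := by group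
  · refine mul_inv_eq_iff_eq_mul.1 ?_
    calc h⁻¹ * g0 * u * (h⁻¹ * g0)⁻¹ = h⁻¹ * (g0 * u * g0⁻¹) * h := by group
      _ = h⁻¹ * (h * u * h⁻¹) * h := by rw [eh2]
      _ = u := by group
  have he : h⁻¹ * g0 * z * (h⁻¹ * g0)⁻¹ = (k p * h)⁻¹ * p'.1 * (k p * h) := by
    rw [hg0, ← kz p' hp'.1]; group
  have hzz : z = (k p * h)⁻¹ * p.1 * (k p * h) := by
    rw [← kz p hp.1]
    calc z = h⁻¹ * (h * z) := by group
      _ = _ := by rw [hhz]; group
  rw [he]
  constructor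
  · show _ * z = z * _
    rw [hzz]
    have hc := D.comm hp'.1.1 hp.1.1
    calc _ = (k p * h)⁻¹ * (p'.1 * p.1) * (k p * h) := by group
      _ = _ := by rw [hc]; group
  · rw [hzz]
    exact fun e => hab (mul_left_cancel (mul_right_cancel e)).symm

end Four

end Cfsg.Agent.U62Fischer
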