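/-
The centraliser of a four group over a small line is a perfect central extension of PSU(6,2).

* `Four.exists_quot` : the quotient is PSU(6,2);
* `Four.quasisimple` : the centraliser is quasisimple.
-/
import Cfsg.Agent.Lib.U62Fischer.Fusion
import Cfsg.Agent.Lib.U62Rec.Unique
import Cfsg.Agent.S0283

set_option autoImplicit false
set_option maxRecDepth 100000

namespace Cfsg.Agent.U62Fischer

open Cfsg.Agent.LargeFischer LargeExtraspecial
open Cfsg.Agent.U62Rec (K V4 U4 cardK)

universe u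

variable {G : Type u} [Group G] [Finite G] {z : G} {Q : Subgroup (Subgroup.centralizer ({z} : Set G))}
  [Q.Normal] [hE : Fact (Cfsg.IsExtraspecial 2 Q)] {S : Setting z Q} {t u : G}

theorem vecs_facts : ((vecsOf 0).all fun p => decide (p < 4096) && orth p && Nat.beq (qn p) 0 &&
    !(line4.contains p)) = true := by
  decide +kernel

theorem bn_units : bn 16 32 = 1 ∧ orth 16 = true ∧ orth 32 = true := by decide +kernel

namespace Four

variable (F : Four S t u)
include F

theorem exists_quot : Nonempty (F.L ≃* Cfsg.PSU 6 K 2) := by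
  obtain ⟨T⟩ := F.exists_setup
  obtain ⟨g, hg, hc, hne⟩ := F.exists_fused
  refine T.exists_equiv (e := QuotientGroup.mk' F.EC (⟨g, hg⟩ * F.zC * ⟨g, hg⟩⁻¹))
    ⟨⟨QuotientGroup.mk' F.EC ⟨g, hg⟩, by rw [zb, ← map_inv, ← map_mul, ← map_mul]⟩, ?_, ?_⟩
  · exact F.rep_comm.2 hc
  · intro h
    obtain ⟨e, he, hz⟩ := F.mk_eq.1 h.symm
    change g * z * g⁻¹ = z * e at hz
    refine hne ?_
    rw [hz, F.eq_z he hz, mul_one]

theorem L_simple : IsSimpleGroup F.L := by
  obtain ⟨e⟩ := F.exists_quot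
  have : IsSimpleGroup (Cfsg.PSU 6 K 2) :=
    Cfsg.Agent.S0283.result (q := 2) (by rw [cardK]; norm_num) 6 (by norm_num) (by norm_num)
  exact MulEquiv.isSimpleGroup e

theorem L_not_comm : ¬ ∀ a b : F.L, a * b = b * a := by
  intro h
  obtain ⟨T⟩ := F.exists_setup
  obtain ⟨k, hk, j, hj, hkj⟩ : ∃ k, k ∈ T.J ∧ ∃ j, j ∈ T.J ∧ ¬ Commute k j := by
    obtain ⟨i, hi, j, hj, h⟩ := T.not_central
    exact ⟨i, hi, j, hj, h⟩
  exact hkj (h k j)

/-- An element of Q over an element of the orthogonal centralises the four group. -/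
theorem mem_cent_of_orth {a : G} (ha : a ∈ QG Q) {x : ℕ} (hx : x < 4096) (ho : orth x = true)
    (hv : vec Q a = S.C.M.e x) : a ∈ Subgroup.centralizer (F.E : Set G) := by
  have ho' : bn 15 x = 0 ∧ bn 5 x = 0 := by
    have := ho
    simp only [orth, orthn, Bool.and_eq_true, Nat.beq_eq, duals.2.2.2.2.1] at this
    exact this
  refine F.mem_cent ((polar_eq_zero ha F.t_mem).1 ?_) ((polar_eq_zero ha F.u_mem).1 ?_)
  · rw [hv, F.t_vec, polar_comm' (S.C.M.e x), ← S.C.M.bn_polar (by norm_num) hx, ho'.1, Nat.cast_zero]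
  · rw [hv, F.u_vec, polar_comm' (S.C.M.e x), ← S.C.M.bn_polar (by norm_num) hx, ho'.2, Nat.cast_zero]

theorem E_le_ker {M : Type u} [CommGroup M] (a : ↥(Subgroup.centralizer (F.E : Set G)) →* M) :
    F.EC ≤ a.ker := by
  classical
  have D := F.data
  have hc := stab15_card F.type S
  -- lifts
  have hex : ∀ x : ℕ, ∃ r : ↥(Subgroup.centralizer (F.E : Set G)),
      x < 4096 → orth x = true → (r : G) ∈ QG Q ∧ vec Q (r : G) = S.C.M.e x := by
    intro x
    by_cases h : x < 4096 ∧ orth x = true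
    · obtain ⟨r, hr, hv⟩ := vec_surj (Q := Q) (S.C.M.e x)
      exact ⟨⟨r, F.mem_cent_of_orth hr h.1 h.2 hv⟩, fun _ _ => ⟨hr, hv⟩⟩
    · exact ⟨1, fun h1 h2 => absurd ⟨h1, h2⟩ h⟩
  choose r hr using hex
  -- z is a commutator
  have hz : a F.zC = 1 := by
    obtain ⟨b1, b2, b3⟩ := bn_units
    obtain ⟨h1, e1⟩ := hr 16 (by norm_num) b2
    obtain ⟨h2, e2⟩ := hr 32 (by norm_num) b3
    have hz1 : ((r 16 : ↥(Subgroup.centralizer (F.E : Set G))) : G) * z = z * r 16 := QG_comm h1
    obtain ⟨hm, hv⟩ := act_vec (Q := Q) hz1 h2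
    rw [(act_eq_one (exists_frame F.type).1 hz1).2 h1] at hv
    rcases vec_eq D hm h2 (show _ = vec Q (r 32 : G) from hv.symm.trans rfl) with e | e
    · exfalso
      have h3 := (polar_eq_zero h1 h2).2 (mul_inv_eq_iff_eq_mul.1 e)
      rw [e1, e2, ← S.C.M.bn_polar (by norm_num) (by norm_num), b1] at h3
      simp at h3
    · have e' : r 16 * r 32 * (r 16)⁻¹ = r 32 * F.zC := Subtype.ext e
      have := congrArg a e'
      rw [map_mul, map_mul, map_inv, map_mul, mul_inv_cancel_comm] at this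
      exact left_eq_mul.1 this
  let A : ℕ → M := fun x => a (r x)
  have hA : ∀ {x : ℕ}, x < 4096 → orth x = true → ∀ g : ↥(Subgroup.centralizer (F.E : Set G)),
      (g : G) ∈ QG Q → vec Q (g : G) = S.C.M.e x → a g = A x := by
    intro x hx ho g hg hv
    obtain ⟨h1, e1⟩ := hr x hx ho
    rcases vec_eq D hg h1 (hv.trans e1.symm) with e | e
    · exact congrArg a (Subtype.ext e)
    · rw [show g = r x * F.zC from Subtype.ext e, map_mul, hz, mul_one]
  have horth : ∀ {x y : ℕ}, x < 4096 → y < 4096 → orth x = true → orth y = true →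
      orth (x ^^^ y) = true ∧ A (x ^^^ y) = A x * A y := by
    intro x y hx hy h1 h2
    obtain ⟨m1, e1⟩ := hr x hx h1
    obtain ⟨m2, e2⟩ := hr y hy h2
    have ev : vec Q ((r x * r y : ↥(Subgroup.centralizer (F.E : Set G))) : G) = S.C.M.e (x ^^^ y) := by
      rw [Subgroup.coe_mul, vec_mul m1 m2, e1, e2, S.C.M.add x hx y hy]
    have ho : orth (x ^^^ y) = true := by
      have h := F.cent_line (mul_mem m1 m2) (r x * r y).2
      rw [show ((r x : G) * r y) = ((r x * r y : ↥(Subgroup.centralizer (F.E : Set G))) : G) from rfl, ev,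
        numOf_e _ (xor_lt_pow hx hy)] at h
      exact h
    refine ⟨ho, ?_⟩
    rw [← hA (xor_lt_pow hx hy) ho (r x * r y) (mul_mem m1 m2) ev, map_mul]
  have hconst : ∀ p ∈ vecsOf 0, ∀ p' ∈ vecsOf 0, A p' = A p := by
    intro p hp p' hp'
    have fp : ∀ p ∈ vecsOf 0, p < 4096 ∧ orth p = true ∧ ThreeTransSU.Iso (wvec p) := by
      intro p hp
      have h := List.all_eq_true.1 vecs_facts p hp
      simp only [Bool.and_eq_true, decide_eq_true_eq, Nat.beq_eq, Bool.not_eq_true'] at h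
      obtain ⟨⟨⟨h1, h2⟩, h3⟩, h4⟩ := h
      refine ⟨h1, h2, fun e => ?_, (wvec_norm h1 h2).2 h3⟩
      have := ((orth_spec h1 h2).2.1).2 e
      rw [List.contains_iff_mem.2 this] at h4
      exact Bool.noConfusion h4
    obtain ⟨p4, po, pi⟩ := fp p hp
    obtain ⟨q4, qo, qi⟩ := fp p' hp'
    obtain ⟨α, hα⟩ := ThreeTransSU.exists_act cardK (by norm_num) pi qi
    obtain ⟨γ, hγ, rfl⟩ := psi_surj S.C hc α
    rw [psi_spec S.C hc hγ p4 po] at hα
    obtain ⟨B, hB, b15, -⟩ := auto0 S.C hγ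
    rw [← hB p p4] at hα
    have hin : ∀ p ∈ vecsOf 0, inP 0 p = true ∧ ∀ e ∈ [5, 10, 15], inP 0 (Nat.xor p e) = false := by
      intro p hp
      have h := List.all_eq_true.1 inP_facts.1 p hp
      simp only [Bool.and_eq_true, Bool.not_eq_true', decide_eq_true_eq, List.all_eq_true] at h
      exact ⟨h.1.1.1.1.2, h.2⟩
    have hlt := B.lt p p4
    have hfo : orth (B.f p) = true := by rw [orth_image S.C b15 p4, po]
    have hfP : inP 0 (B.f p) = true := by rw [B.map_inP S.C.M b15 p4]; exact (hin p hp).1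
    obtain ⟨hdo, -⟩ := horth q4 hlt qo hfo
    have h0 : wvec (p' ^^^ B.f p) = 0 := by rw [wvec_xor, hα]; exact U62Rec.vv _
    have hmem := ((orth_spec (xor_lt_pow q4 hlt) hdo).2.1).2 h0
    have heq : B.f p = p' := by
      have e : B.f p = p' ^^^ (p' ^^^ B.f p) := by rw [← Nat.xor_assoc, Nat.xor_self, Nat.zero_xor]
      generalize p' ^^^ B.f p = d at e hmem
      simp only [line4, List.mem_cons, List.not_mem_nil, or_false] at hmem
      rcases hmem with rfl | rfl | rfl | rfl
      · rw [e, Nat.xor_zero]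
      all_goals
        exfalso
        rw [e] at hfP
        exact Bool.noConfusion (hfP.symm.trans ((hin p' hp').2 _ (by simp)))
    obtain ⟨k, hkz, hkC, hka⟩ := F.lift hγ
    obtain ⟨h1, e1⟩ := hr p p4 po
    obtain ⟨hm, hv⟩ := act_vec (Q := Q) hkz h1
    rw [hka, e1, ← (numMap_spec S.C.M γ p).2, ← hB p p4, heq] at hv
    rw [← hA q4 qo (⟨k, hkC⟩ * r p * ⟨k, hkC⟩⁻¹) hm hv.symm, map_mul, map_mul, map_inv, mul_inv_cancel_comm]
  obtain ⟨ht, t0, t1, t2, t3⟩ := triples
  simp only [List.all_cons, List.all_nil, Bool.and_true, Bool.and_eq_true, List.contains_iff_mem] at ht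
  obtain ⟨m80, m160, m240, m1280, m1365, m3840, m3930, m2560, m2655⟩ := ht
  have fo : ∀ p ∈ vecsOf 0, p < 4096 ∧ orth p = true := by
    intro p hp
    have h := List.all_eq_true.1 vecs_facts p hp
    simp only [Bool.and_eq_true, decide_eq_true_eq] at h
    exact ⟨h.1.1.1, h.1.1.2⟩
  have hp80 : A 80 = 1 := by
    have h := (horth (fo _ m80).1 (fo _ m160).1 (fo _ m80).2 (fo _ m160).2).2
    rw [show 80 ^^^ 160 = 240 from t0, hconst _ m80 _ m240, hconst _ m80 _ m160] at h
    exact left_eq_mul.1 h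
  have three : ∀ x y, x ∈ vecsOf 0 → y ∈ vecsOf 0 → ∀ l, Nat.xor (Nat.xor 80 x) y = l → A l = 1 := by
    intro x y hx hy l hl
    obtain ⟨o1, e1⟩ := horth (fo _ m80).1 (fo _ hx).1 (fo _ m80).2 (fo _ hx).2
    obtain ⟨-, e2⟩ := horth (xor_lt_pow (fo _ m80).1 (fo _ hx).1) (fo _ hy).1 o1 (fo _ hy).2
    rw [← hl]
    refine (e2.trans ?_)
    rw [e1, hconst _ m80 _ hx, hconst _ m80 _ hy, hp80, one_mul, one_mul]
  intro g hg
  change (g : G) ∈ F.E at hg
  rw [MonoidHom.mem_ker]
  by_cases h1 : (g : G) = 1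
  · rw [show g = 1 from Subtype.ext h1, map_one]
  obtain ⟨x, hx, hv⟩ := F.E_vec hg h1
  have hxl : x ∈ line4 := by rcases hx with rfl | rfl | rfl <;> decide
  rw [hA (line4_spec x hxl).1 (line4_spec x hxl).2.1 g (F.E_le hg) hv]
  rcases hx with rfl | rfl | rfl
  exacts [three _ _ m1280 m1365 _ t1, three _ _ m3840 m3930 _ t2, three _ _ m2560 m2655 _ t3]

theorem perfect : commutator ↥(Subgroup.centralizer (F.E : Set G)) = ⊤ := by
  classical
  have := F.L_simple
  set C := ↥(Subgroup.centralizer (F.E : Set G))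
  have hle : F.EC ≤ commutator C := fun g hg => by
    have := F.E_le_ker (Abelianization.of (G := C)) hg
    rwa [MonoidHom.mem_ker, ← MonoidHom.mem_ker, Abelianization.ker_of] at this
  have hn : ((commutator C).map (QuotientGroup.mk' F.EC)).Normal :=
    Subgroup.Normal.map inferInstance _ (QuotientGroup.mk'_surjective _)
  rcases hn.eq_bot_or_eq_top with h | h
  · exfalso
    apply F.L_not_comm
    intro x y
    obtain ⟨x, rfl⟩ := QuotientGroup.mk'_surjective F.EC x
    obtain ⟨y, rfl⟩ := QuotientGroup.mk'_surjective F.EC y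
    rw [← commutatorElement_eq_one_iff_mul_comm, ← map_commutatorElement, ← Subgroup.mem_bot, ← h]
    exact Subgroup.mem_map_of_mem _ (Subgroup.commutator_mem_commutator (Subgroup.mem_top x) (Subgroup.mem_top y))
  · have := congrArg (Subgroup.comap (QuotientGroup.mk' F.EC)) h
    rw [Subgroup.comap_top, QuotientGroup.comap_map_mk', sup_eq_right.2 hle] at this
    exact this

theorem center_eq : Subgroup.center ↥(Subgroup.centralizer (F.E : Set G)) = F.EC := by
  classical
  have := F.L_simple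
  refine le_antisymm ?_ ?_
  rotate_left
  · intro g hg
    have hgE : (g : G) ∈ F.E := hg
    exact Subgroup.mem_center_iff.2 fun h => Subtype.ext (Subgroup.mem_centralizer_iff.1 h.2 _ hgE).symm
  have hn : ((Subgroup.center ↥(Subgroup.centralizer (F.E : Set G))).map (QuotientGroup.mk' F.EC)).Normal :=
    Subgroup.Normal.map inferInstance _ (QuotientGroup.mk'_surjective _)
  rcases hn.eq_bot_or_eq_top with h | h
  · intro g hg
    rw [← QuotientGroup.eq_one_iff g, ← Subgroup.mem_bot]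
    exact h ▸ Subgroup.mem_map_of_mem (QuotientGroup.mk' F.EC) hg
  · exfalso
    apply F.L_not_comm
    intro x y
    obtain ⟨c, hc, rfl⟩ := h.ge (Subgroup.mem_top x)
    obtain ⟨y, rfl⟩ := QuotientGroup.mk'_surjective F.EC y
    rw [← map_mul, ← map_mul, Subgroup.mem_center_iff.1 hc y]

theorem quasisimple : Cfsg.IsQuasisimple ↥(Subgroup.centralizer (F.E : Set G)) := by
  have := F.L_simple
  exact ⟨⟨F.perfect⟩, MulEquiv.isSimpleGroup (QuotientGroup.quotientMulEquivOfEq F.center_eq)⟩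

end Four

end Cfsg.Agent.U62Fischer
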