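/-
The transfer of a sign character of a subgroup evaluated on an involution centralised by a 2-subgroup
fixing only the base coset.

* `transfer_val`
-/
import Cfsg.Agent.EqLemmas
import Cfsg.Agent.Lib.LargeExtraspecial.TransferFixed
import Mathlib.GroupTheory.GroupAction.SubMulAction

set_option autoImplicit false

namespace Cfsg.Agent.U62Fischer

open Subgroup Cfsg.Agent.LargeExtraspecial.TransferFixed

universe u

variable {Y : Type u} [Group Y] [Finite Y]

theorem transfer_val {H : Subgroup Y} (μ : H →* ℤˣ) {h : Y} (hh : h * h = 1) (hH : h ∈ H)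
    {S : Subgroup Y} (hS : IsPGroup 2 S) (hSh : ∀ s ∈ S, s * h = h * s) (hSH : S ≤ H)
    (honly : ∀ g : Y, (∀ s ∈ S, g⁻¹ * s * g ∈ H) → g ∈ H) : MonoidHom.transfer μ h = μ ⟨h, hH⟩ := by
  classical
  haveI : Fintype (Y ⧸ H) := Fintype.ofFinite _
  haveI : Fact (Nat.Prime 2) := ⟨Nat.prime_two⟩
  let f : Y ⧸ H → ℤˣ := fun q => Quotient.liftOn' q (fun g => lam μ (g⁻¹ * h * g)) fun a b hab => by
    rw [QuotientGroup.leftRel_apply] at hab
    rw [← lam_conj hab (a⁻¹ * h * a)]
    congr 1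
    group
  have hf : ∀ g : Y, f (g : Y ⧸ H) = lam μ (g⁻¹ * h * g) := fun g => rfl
  rw [transfer_eq_prod_fixed μ h f hf (fun g r h2 hr hm => by
    have : r = 2 := by
      have := Nat.le_of_dvd (by norm_num) (hr.trans (orderOf_dvd_of_pow_eq_one (show h ^ 2 = 1 by rw [pow_two, hh])))
      omega
    subst this
    rw [show g⁻¹ * h ^ 2 * g = 1 by rw [pow_two, hh]; simp, lam_of_mem (one_mem H)]
    exact map_one μ)]
  set q1 : Y ⧸ H := ((1 : Y) : Y ⧸ H)
  have hf1 : f q1 = μ ⟨h, hH⟩ := by rw [hf, ← lam_of_mem]; simp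
  have hinv : ∀ s ∈ S, ∀ q, f (s • q) = f q := by
    intro s hs q
    induction q using QuotientGroup.induction_on with
    | _ g =>
      show lam μ ((s * g)⁻¹ * h * (s * g)) = lam μ (g⁻¹ * h * g)
      congr 1
      rw [show (s * g)⁻¹ * h * (s * g) = g⁻¹ * s⁻¹ * (h * s) * g by group, ← hSh s hs]
      group
  let M : SubMulAction S (Y ⧸ H) :=
    { carrier := {q | f q ≠ 1}
      smul_mem' := fun s q hq => by
        show f ((s : Y) • q) ≠ 1
        rw [hinv s s.2 q]; exact hq }
  haveI : Fintype M := Fintype.ofFinite _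
  have hfix : ∀ q : M, q ∈ MulAction.fixedPoints S M ↔ (q : Y ⧸ H) = q1 := by
    intro q
    rw [MulAction.mem_fixedPoints]
    constructor
    · intro hq
      obtain ⟨g, hg⟩ := QuotientGroup.mk_surjective (q : Y ⧸ H)
      rw [← hg]
      refine QuotientGroup.eq.2 ?_
      rw [mul_one, inv_mem_iff]
      refine honly g fun s hs => (mk_fixed_iff s g).1 ?_
      rw [hg]
      exact congrArg Subtype.val (hq ⟨s, hs⟩)
    · intro hq s
      refine Subtype.ext ?_
      show (s : Y) • (q : Y ⧸ H) = q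
      rw [hq, mk_fixed_iff]
      simpa using hSH s.2
  have hmod := hS.card_modEq_card_fixedPoints (α := M)
  have hprod : ∏ q, f q = (-1) ^ Nat.card M := by
    rw [← Finset.prod_filter_ne_one Finset.univ,
      Finset.prod_congr rfl fun q hq => (Int.units_eq_one_or (f q)).resolve_left (Finset.mem_filter.1 hq).2,
      Finset.prod_const, ← Nat.card_eq_finsetCard]
    congr 1
    exact Nat.card_congr (Equiv.subtypeEquivRight fun q =>
      ⟨fun hq => (Finset.mem_filter.1 hq).2, fun hq => Finset.mem_filter.2 ⟨Finset.mem_univ _, hq⟩⟩)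
  rw [hprod, ← hf1]
  by_cases h1 : f q1 = 1
  · haveI : IsEmpty (MulAction.fixedPoints S M) := ⟨fun q => q.1.2 (((hfix _).1 q.2).symm ▸ h1)⟩
    have e0 : Nat.card (MulAction.fixedPoints S M) = 0 := Nat.card_of_isEmpty
    rw [e0] at hmod
    rw [h1]
    exact Even.neg_one_pow (Nat.even_iff.2 hmod)
  · have e1 : Nat.card (MulAction.fixedPoints S M) = 1 := Nat.card_eq_one_iff_unique.2
      ⟨⟨fun a b => Subtype.ext (Subtype.ext (((hfix _).1 a.2).trans ((hfix _).1 b.2).symm))⟩,
        ⟨⟨⟨q1, h1⟩, (hfix _).2 rfl⟩⟩⟩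
    rw [e1] at hmod
    rw [(Int.units_eq_one_or (f q1)).resolve_left h1]
    exact Odd.neg_one_pow (Nat.odd_iff.2 hmod)

end Cfsg.Agent.U62Fischer
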