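/-
A subgroup of index two of the centraliser of the small involution t, by the transfer of the character of the
centraliser of z recording whether u is moved by z.

* `Four.sign` : the character;
* `Four.exists_half` : the subgroup, containing the centraliser of the four group, in which u is not conjugate
  to t * u and is conjugate to another element commuting with it.
-/
import Cfsg.Agent.Lib.U62Fischer.Main
import Cfsg.Agent.Lib.U62Fischer.Transfer

set_option autoImplicit false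
set_option maxRecDepth 100000

namespace Cfsg.Agent.U62Fischer

open Cfsg.Agent.LargeFischer LargeExtraspecial Golay
open Cfsg.Agent.LargeExtraspecial.TransferFixed (lam)

universe u

theorem six_facts : qn 6 = 0 ∧ bn 6 15 = 0 ∧ bn 6 5 = 1 := by decide +kernel

/-- Vectors orthogonal to those of t and r. -/
def fixList : List ℕ := [15, 6, 16, 32, 64, 128, 256, 512, 1024, 2048]

/-- A basis of the space. -/
def fixBase : List ℕ := [15, 5, 6, 11, 16, 32, 64, 128, 256, 512, 1024, 2048]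

theorem fix_facts : (fixList.all fun x => decide (x < 4096) && Nat.beq (bn x 15) 0 && Nat.beq (bn x 6) 0) = true ∧
    nmul 16 = 32 ∧ nmul 6 = 11 ∧ npow 2 16 ≠ 32 ∧
    (bas12.all fun x => (List.range 4096).any fun m => Nat.beq (comb fixBase m) x) = true := by
  decide +kernel

theorem perp_fix : ((List.range 4096).all fun x => !(fixList.all fun y => Nat.beq (bn x y) 0) ||
    [0, 6, 9, 15].contains x) = true := by
  decide +kernel

theorem small_fix : ∀ x ∈ [6, 9, 15], x < 4096 ∧ x ≠ 0 ∧ qn x = 0 ∧ inSmall 0 x = true := by decide +kernel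

variable {G : Type u} [Group G] [Finite G] {z : G} {Q : Subgroup (Subgroup.centralizer ({z} : Set G))}
  [Q.Normal] [hE : Fact (Cfsg.IsExtraspecial 2 Q)] {S : Setting z Q} {t u : G}

/-- Three distinct points. -/
def three {α : Type*} {a b c : α} (h1 : a ≠ b) (h2 : a ≠ c) (h3 : b ≠ c) : Fin 3 ↪ α :=
  ⟨![a, b, c], by intro i j hij; fin_cases i <;> fin_cases j <;> simp_all [eq_comm]⟩

namespace Four

variable (F : Four S t u)

omit [Finite G] in
/-- The centraliser of z in the centraliser of t. -/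
def Hz (_ : Four S t u) : Subgroup ↥(Subgroup.centralizer ({t} : Set G)) :=
  (Subgroup.centralizer ({z} : Set G)).subgroupOf (Subgroup.centralizer ({t} : Set G))

include F

theorem mem_Hz {g : ↥(Subgroup.centralizer ({t} : Set G))} : g ∈ F.Hz ↔ (g : G) * z = z * g :=
  Subgroup.mem_centralizer_singleton_iff

theorem z_sq : z * z = 1 := (qf_eq_zero F.data.z_mem).1 (by rw [vec_z F.data, map_zero])

theorem z_notT : z ∉ Subgroup.zpowers t := fun h => F.z_notMem
  (Subgroup.zpowers_le.2 (F.mem_E.2 (Or.inr (Or.inl rfl))) h)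

/-- The displacement of u. -/
theorem disp (g : F.Hz) : ∃ w c : G, u⁻¹ * ((g.1 : G) * u * (g.1 : G)⁻¹) = w * c ∧
    w ∈ Subgroup.zpowers t ∧ (w = 1 ∨ w = t) ∧ (c = 1 ∨ c = z) := by
  have hz := F.mem_Hz.1 g.2
  have ht : (g.1 : G) * t = t * g.1 := Subgroup.mem_centralizer_singleton_iff.1 g.1.2
  have h15 : act Q (g.1 : G) (S.C.M.e 15) = S.C.M.e 15 := by
    rw [← F.t_vec, (act_vec hz F.t_mem).2, ht, mul_inv_cancel_right]
  obtain ⟨A, hA, -, h5, -⟩ := auto15 S.C (act_mem hz) h15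
  obtain ⟨hm, hv⟩ := act_vec (Q := Q) hz F.u_mem
  rw [F.u_vec, ← hA 5 (by norm_num)] at hv
  have hui : u⁻¹ = u := inv_eq_of_mul_eq_one_right F.u_sq
  rcases h5 with h | h <;> rw [h] at hv
  · rcases vec_eq F.data hm F.u_mem (hv.symm.trans F.u_vec.symm) with e | e
    · exact ⟨1, 1, by rw [e]; simp, one_mem _, Or.inl rfl, Or.inl rfl⟩
    · exact ⟨1, z, by rw [e]; simp, one_mem _, Or.inl rfl, Or.inr rfl⟩
  · rcases vec_eq F.data hm (mul_mem F.t_mem F.u_mem) (hv.symm.trans F.tu_vec.symm) with e | e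
    · exact ⟨t, 1, by rw [e, F.tu_comm]; simp, Subgroup.mem_zpowers t, Or.inr rfl, Or.inl rfl⟩
    · exact ⟨t, z, by rw [e, F.tu_comm]; simp [mul_assoc], Subgroup.mem_zpowers t, Or.inr rfl, Or.inr rfl⟩

open Classical in
/-- The sign. -/
noncomputable def sgn (_ : Four S t u) (g : G) : ℤˣ :=
  if u⁻¹ * (g * u * g⁻¹) ∈ Subgroup.zpowers t then 1 else -1

theorem sgn_of {g w c : G} (h : u⁻¹ * (g * u * g⁻¹) = w * c) (hw : w ∈ Subgroup.zpowers t)
    (hc : c = 1 ∨ c = z) : (c = 1 → F.sgn g = 1) ∧ (c = z → F.sgn g = -1) := by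
  refine ⟨fun e => ?_, fun e => ?_⟩
  · exact if_pos (by rw [h, e, mul_one]; exact hw)
  · exact if_neg (by rw [h, e, Subgroup.mul_mem_cancel_left _ hw]; exact F.z_notT)

theorem sgn_mul (a b : F.Hz) : F.sgn ((a * b).1 : G) = F.sgn (a.1 : G) * F.sgn (b.1 : G) := by
  obtain ⟨w, c, e, hw, -, hc⟩ := F.disp a
  obtain ⟨w', c', e', hw', hw1, hc'⟩ := F.disp b
  have haz := F.mem_Hz.1 a.2
  have hat : (a.1 : G) * t = t * a.1 := Subgroup.mem_centralizer_singleton_iff.1 a.1.2
  have hfix : ∀ x : G, (x = 1 ∨ x = t ∨ x = z) → (a.1 : G) * x * (a.1 : G)⁻¹ = x := by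
    rintro x (rfl | rfl | rfl)
    · simp
    · rw [hat, mul_inv_cancel_right]
    · rw [haz, mul_inv_cancel_right]
  have h1 : (a.1 : G) * w' * (a.1 : G)⁻¹ = w' := hfix _ (by rcases hw1 with h | h <;> simp [h])
  have h2 : (a.1 : G) * c' * (a.1 : G)⁻¹ = c' := hfix _ (by rcases hc' with h | h <;> simp [h])
  have hwc : Commute c w' := by
    have hz : Commute z t := (QG_comm F.t_mem).symm
    rcases hc with rfl | rfl <;> rcases hw1 with rfl | rfl <;>
      first | exact Commute.one_left _ | exact Commute.one_right _ | exact hz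
  have key : u⁻¹ * (((a * b).1 : G) * u * ((a * b).1 : G)⁻¹) = w * w' * (c * c') := by
    have e2 : ((a * b).1 : G) * u * ((a * b).1 : G)⁻¹ = ((a.1 : G) * u * (a.1 : G)⁻¹) *
        ((a.1 : G) * (u⁻¹ * ((b.1 : G) * u * (b.1 : G)⁻¹)) * (a.1 : G)⁻¹) := by
      simp [mul_assoc]
    rw [e2, ← mul_assoc, e, e',
      show (a.1 : G) * (w' * c') * (a.1 : G)⁻¹ = ((a.1 : G) * w' * (a.1 : G)⁻¹) * ((a.1 : G) * c' * (a.1 : G)⁻¹) by group,
      h1, h2, mul_assoc w, ← mul_assoc c, hwc.eq]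
    simp [mul_assoc]
  obtain ⟨p1, p2⟩ := F.sgn_of e hw hc
  obtain ⟨q1, q2⟩ := F.sgn_of e' hw' hc'
  have hcc : c * c' = 1 ∨ c * c' = z := by
    rcases hc with rfl | rfl <;> rcases hc' with rfl | rfl <;> simp [F.z_sq]
  obtain ⟨r1, r2⟩ := F.sgn_of key (mul_mem hw hw') hcc
  rcases hc with rfl | rfl <;> rcases hc' with rfl | rfl
  · rw [r1 (one_mul _), p1 rfl, q1 rfl, one_mul]
  · rw [r2 (one_mul _), p1 rfl, q2 rfl, one_mul]
  · rw [r2 (mul_one _), p2 rfl, q1 rfl, mul_one]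
  · rw [r1 F.z_sq, p2 rfl, q2 rfl]; rfl

/-- The character. -/
noncomputable def sign : F.Hz →* ℤˣ where
  toFun g := F.sgn (g.1 : G)
  map_one' := (F.sgn_of (g := (1 : G)) (w := 1) (c := 1) (by simp) (one_mem _) (Or.inl rfl)).1 rfl
  map_mul' := F.sgn_mul

/-- The transfer of the character. -/
noncomputable def tra : ↥(Subgroup.centralizer ({t} : Set G)) →* ℤˣ := MonoidHom.transfer F.sign

theorem exists_r : ∃ r : ↥(Subgroup.centralizer ({t} : Set G)), (r : G) ∈ QG Q ∧
    vec Q (r : G) = S.C.M.e 6 := by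
  obtain ⟨r, hr, er⟩ := vec_surj (Q := Q) (S.C.M.e 6)
  refine ⟨⟨r, Subgroup.mem_centralizer_singleton_iff.2 ((polar_eq_zero hr F.t_mem).1 ?_)⟩, hr, er⟩
  rw [er, F.t_vec, ← S.C.M.bn_polar (by norm_num) (by norm_num), six_facts.2.1, Nat.cast_zero]

/-- A conjugate of z centralising the part of Q centralising t and r is z. -/
theorem only_z {r a : G} (hr : r ∈ QG Q) (er : vec Q r = S.C.M.e 6) (ha : IsConj z a)
    (hc : ∀ s ∈ QG Q, s * t = t * s → s * r = r * s → a * s = s * a) : a = z := by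
  have D := F.data
  have haz : a * z = z * a := hc z D.z_mem (QG_comm F.t_mem).symm (QG_comm hr).symm
  have hlist : ∀ x ∈ fixList, ∃ s ∈ QG Q, vec Q s = S.C.M.e x ∧ a * s = s * a := by
    intro x hx
    have h := List.all_eq_true.1 fix_facts.1 x hx
    simp only [Bool.and_eq_true, decide_eq_true_eq, Nat.beq_eq] at h
    obtain ⟨s, hs, es⟩ := vec_surj (Q := Q) (S.C.M.e x)
    refine ⟨s, hs, es, hc s hs ((polar_eq_zero hs F.t_mem).1 ?_) ((polar_eq_zero hs hr).1 ?_)⟩
    · rw [es, F.t_vec, ← S.C.M.bn_polar h.1.1 (by norm_num), h.1.2, Nat.cast_zero]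
    · rw [es, er, ← S.C.M.bn_polar h.1.1 (by norm_num), h.2, Nat.cast_zero]
  have hfix : ∀ x ∈ fixList, act Q a (S.C.M.e x) = S.C.M.e x := by
    intro x hx
    obtain ⟨s, hs, es, h⟩ := hlist x hx
    rw [← es, (act_vec haz hs).2, h, mul_inv_cancel_right]
  obtain ⟨A, hA, h15, -, hn⟩ := auto15 S.C (act_mem haz) (hfix 15 (by decide))
  have hAf : ∀ x ∈ fixList, A.f x = x := fun x hx => by
    have h4 : x < 4096 := (by decide : ∀ x ∈ fixList, x < 4096) x hx
    exact S.C.M.inj _ (A.lt x h4) x h4 ((hA x h4).trans (hfix x hx))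
  have h5 : A.f 5 = 5 := by
    obtain ⟨s, hs, ht⟩ := A.twist
    rcases hs with rfl | rfl
    · have := ht 15 (by norm_num)
      rw [duals.2.2.2.2.1, h15] at this
      exact this.trans duals.2.2.2.2.1
    · have := ht 16 (by norm_num)
      rw [fix_facts.2.1, hAf 32 (by decide), hAf 16 (by decide)] at this
      exact absurd this.symm fix_facts.2.2.2.1
  have h11 : A.f 11 = 11 := by
    have := hn h5 6 (by norm_num)
    rwa [fix_facts.2.2.1, hAf 6 (by decide), fix_facts.2.2.1] at this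
  have h0 : A.f 0 = 0 := by
    have := A.add 0 (by norm_num) 0 (by norm_num)
    rwa [Nat.xor_self, Nat.xor_self] at this
  have hbase : ∀ (l : List ℕ), (∀ x ∈ l, x < 4096 ∧ A.f x = x) → ∀ m, comb l m < 4096 ∧ A.f (comb l m) = comb l m := by
    intro l
    induction l with
    | nil => intro _ m; exact ⟨by show (0 : ℕ) < 4096; norm_num, h0⟩
    | cons a l ih =>
      intro hl m
      obtain ⟨h1, h2⟩ := ih (fun x hx => hl x (List.mem_cons_of_mem _ hx)) (m / 2)
      obtain ⟨a1, a2⟩ := hl a List.mem_cons_self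
      have hc : (if Nat.beq (m % 2) 1 then a else 0) < 4096 ∧
          A.f (if Nat.beq (m % 2) 1 then a else 0) = (if Nat.beq (m % 2) 1 then a else 0) := by
        split_ifs
        · exact ⟨a1, a2⟩
        · exact ⟨by norm_num, h0⟩
      refine ⟨xor_lt_pow hc.1 h1, ?_⟩
      show A.f (_ ^^^ _) = _ ^^^ _
      rw [A.add _ hc.1 _ h1, hc.2, h2]
  have hall : ∀ x < 4096, A.f x = x := by
    refine ext_bits A.lt A.add (fun x _ y _ => rfl) (fun x hx => hx) fun x hx => ?_
    have h := List.all_eq_true.1 fix_facts.2.2.2.2 x hx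
    obtain ⟨m, -, hm⟩ := List.any_eq_true.1 h
    rw [← Nat.eq_of_beq_eq_true hm]
    refine (hbase fixBase (fun y hy => ?_) m).2
    refine ⟨(by decide : ∀ y ∈ fixBase, y < 4096) y hy, ?_⟩
    by_cases h : y ∈ fixList
    · exact hAf y h
    · rcases (by decide : ∀ y ∈ fixBase, y ∈ fixList ∨ y = 5 ∨ y = 11) y hy with k | rfl | rfl
      exacts [absurd k h, h5, h11]
  have haQ : a ∈ QG Q := by
    refine (act_eq_one (exists_frame F.type).1 haz).1 (LinearEquiv.ext fun v => ?_)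
    obtain ⟨x, hx, rfl⟩ := S.C.M.surj v
    rw [← hA x hx, hall x hx]
    rfl
  obtain ⟨x, hx, hv⟩ := S.C.M.surj (vec Q a)
  have hperp : fixList.all (fun y => Nat.beq (bn x y) 0) = true := List.all_eq_true.2 fun y hy => by
    obtain ⟨s, hs, es, h⟩ := hlist y hy
    have h4 : y < 4096 := (by decide : ∀ x ∈ fixList, x < 4096) y hy
    have hp := (polar_eq_zero haQ hs).2 h
    rw [← hv, es, ← S.C.M.bn_polar hx h4] at hp
    rw [cast_inj_two (bn_lt _ _) (by norm_num) (hp.trans Nat.cast_zero.symm)]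
    rfl
  have hmem := List.all_eq_true.1 perp_fix x (List.mem_range.2 hx)
  rw [hperp, Bool.not_true, Bool.false_or, List.contains_iff_mem] at hmem
  rcases List.mem_cons.1 hmem with rfl | h
  · rcases vec_eq_zero D haQ (by rw [← hv, S.C.M.zero]) with e | e
    · exfalso
      rw [e] at ha
      obtain ⟨g, hg⟩ := isConj_iff.1 ha
      exact D.z_ne (conj_eq_one_iff.1 hg)
    · exact e
  · obtain ⟨h1, h2, h3, h4⟩ := small_fix x h
    exact absurd ha (nonconj F.type S haQ h1 h2 h3 h4 hv.symm)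

theorem tra_r {r : ↥(Subgroup.centralizer ({t} : Set G))} (hr : (r : G) ∈ QG Q)
    (er : vec Q (r : G) = S.C.M.e 6) : F.tra r = -1 := by
  classical
  have hrz : (r : G) * z = z * r := QG_comm hr
  have hr2 : (r : G) * r = 1 := (qf_eq_zero hr).1 (by rw [er, S.C.M.q_e 6 (by norm_num), six_facts.1, Nat.cast_zero])
  let S0 : Subgroup ↥(Subgroup.centralizer ({t} : Set G)) :=
    (QG Q ⊓ Subgroup.centralizer ({(r : G)} : Set G)).subgroupOf (Subgroup.centralizer ({t} : Set G))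
  have hP : IsPGroup 2 S0 := by
    have hQ : IsPGroup 2 (QG Q) := hE.out.1.1.map _
    refine IsPGroup.of_injective (hQ.to_le (H := QG Q ⊓ Subgroup.centralizer ({(r : G)} : Set G)) inf_le_left)
      { toFun := fun s => ⟨(s.1 : G), s.2⟩, map_one' := rfl, map_mul' := fun _ _ => rfl } ?_
    intro a b h
    exact Subtype.ext (Subtype.ext (Subtype.mk.inj h))
  have h := transfer_val F.sign (h := r) (Subtype.ext hr2) (F.mem_Hz.2 hrz) hP
    (fun s hs => Subtype.ext (Subgroup.mem_centralizer_singleton_iff.1 hs.2))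
    (fun s hs => F.mem_Hz.2 (QG_comm hs.1)) (fun g hg => ?_)
  · refine h.trans ?_
    show F.sgn (r : G) = -1
    obtain ⟨hm, hv⟩ := act_vec (Q := Q) hrz F.u_mem
    rw [(act_eq_one (exists_frame F.type).1 hrz).2 hr] at hv
    rcases vec_eq F.data hm F.u_mem (show _ = vec Q u from hv.symm.trans rfl) with e | e
    · exfalso
      have h3 := (polar_eq_zero hr F.u_mem).2 (mul_inv_eq_iff_eq_mul.1 e)
      rw [er, F.u_vec, ← S.C.M.bn_polar (by norm_num) (by norm_num), six_facts.2.2] at h3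
      simp at h3
    · exact (F.sgn_of (w := 1) (c := z) (by rw [e]; simp) (one_mem _) (Or.inr rfl)).2 rfl
  · have key : (g : G) * z * (g : G)⁻¹ = z := F.only_z hr er (isConj_iff.2 ⟨g, rfl⟩) fun s hs hst hsr => by
      have h := F.mem_Hz.1 (hg ⟨s, Subgroup.mem_centralizer_singleton_iff.2 hst⟩
        ⟨hs, Subgroup.mem_centralizer_singleton_iff.2 hsr⟩)
      change (g : G)⁻¹ * s * (g : G) * z = z * ((g : G)⁻¹ * s * (g : G)) at h
      calc (g : G) * z * (g : G)⁻¹ * s = (g : G) * (z * ((g : G)⁻¹ * s * (g : G))) * (g : G)⁻¹ := by group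
        _ = (g : G) * ((g : G)⁻¹ * s * (g : G) * z) * (g : G)⁻¹ := by rw [h]
        _ = _ := by group
    exact F.mem_Hz.2 (mul_inv_eq_iff_eq_mul.1 key)

/-- The centraliser of the four group inside the centraliser of t. -/
theorem cent_le : Subgroup.centralizer (F.E : Set G) ≤ Subgroup.centralizer ({t} : Set G) := fun g hg =>
  Subgroup.mem_centralizer_singleton_iff.2
    ((Subgroup.mem_centralizer_iff.1 hg t (F.mem_E.2 (by simp))).symm)

theorem tra_cent {g : ↥(Subgroup.centralizer ({t} : Set G))} (hg : (g : G) ∈ Subgroup.centralizer (F.E : Set G)) :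
    F.tra g = 1 := by
  have h := Abelianization.commutator_subset_ker (F.tra.comp (Subgroup.inclusion F.cent_le))
    (show (⟨g, hg⟩ : ↥(Subgroup.centralizer (F.E : Set G))) ∈ commutator _ by rw [F.perfect]; trivial)
  exact h

/-- The subgroup of index two. -/
theorem exists_half : ∃ Y : Subgroup ↥(Subgroup.centralizer ({t} : Set G)), Y.index = 2 ∧
    (∀ g : ↥(Subgroup.centralizer ({t} : Set G)), (g : G) ∈ Subgroup.centralizer (F.E : Set G) → g ∈ Y) ∧
    (∀ g ∈ Y, (g : G) * u * (g : G)⁻¹ ≠ t * u) ∧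
    ∃ g ∈ Y, Commute ((g : G) * u * (g : G)⁻¹) u ∧ (g : G) * u * (g : G)⁻¹ ≠ u ∧
      (g : G) * u * (g : G)⁻¹ ≠ t * u := by
  classical
  obtain ⟨r, hr, er⟩ := F.exists_r
  have hVr := F.tra_r hr er
  obtain ⟨A, ⟨D⟩, hzA, htA, huA, hQA⟩ := F.exists_adata
  set V := F.tra
  refine ⟨V.ker, ?_, fun g hg => F.tra_cent hg, ?_⟩
  · rw [Subgroup.index_ker, MonoidHom.range_eq_top.2 fun x => ?_, Subgroup.card_top, Nat.card_eq_fintype_card,
      Fintype.card_units_int]
    rcases Int.units_eq_one_or x with rfl | rfl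
    exacts [⟨1, map_one V⟩, ⟨r, hVr⟩]
  obtain ⟨a, b, c, hab, hac, hbc, et, eu⟩ : ∃ a b c, a ≠ b ∧ a ≠ c ∧ b ≠ c ∧ t = D.pairEl a b ∧
      u = D.pairEl a c := by
    obtain ⟨p, q, hpq, et⟩ := D.exists_pair htA F.t_ne (F.E_nonconj (F.mem_E.2 (by simp)) F.t_ne)
    obtain ⟨x, y, hxy, eu⟩ := D.exists_pair huA F.u_ne (F.E_nonconj (F.mem_E.2 (by simp)) F.u_ne)
    have htu1 : t * u ≠ 1 := fun e => F.e_ne (x := 10) (by simp) (by rw [← F.tu_vec, e, vec_one])
    obtain ⟨hcom, hns⟩ := (D.meet_iff hpq hxy).2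
      (by rw [et, eu]; exact ⟨htu1, F.E_nonconj (F.mem_E.2 (by simp)) htu1⟩)
    rcases hcom with e | e | e | e <;> subst e
    · exact ⟨p, q, y, hpq, hxy, fun e => hns (Or.inl ⟨rfl, e⟩), et.symm, eu.symm⟩
    · exact ⟨p, q, x, hpq, hxy.symm, fun e => hns (Or.inr ⟨rfl, e⟩), et.symm, eu.symm.trans (D.pairEl_comm _ _)⟩
    · exact ⟨q, p, y, hpq.symm, hxy, fun e => hns (Or.inr ⟨e, rfl⟩), et.symm.trans (D.pairEl_comm _ _), eu.symm⟩
    · exact ⟨q, p, x, hpq.symm, hxy.symm, fun e => hns (Or.inl ⟨e, rfl⟩), et.symm.trans (D.pairEl_comm _ _),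
        eu.symm.trans (D.pairEl_comm _ _)⟩
  have etu : t * u = D.pairEl b c := by
    rw [et, eu, D.mul_pairEl]
    unfold AData.pairEl
    congr 1
    show (tauI (idx a) ^^^ tauI (idx b)) ^^^ (tauI (idx a) ^^^ tauI (idx c)) = tauI (idx b) ^^^ tauI (idx c)
    rw [Nat.xor_comm (tauI (idx a)) (tauI (idx b)), Nat.xor_assoc, ← Nat.xor_assoc (tauI (idx a)), Nat.xor_self,
      Nat.zero_xor]
  -- elements fixing the two points
  let N := Subgroup.normalizer (A : Set G)
  let M22 := M24 ⊓ MulAction.stabilizer (Equiv.Perm GolayPt) a ⊓ MulAction.stabilizer (Equiv.Perm GolayPt) b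
  have hmove : ∀ g : N, D.pointHom g a = a ∧ D.pointHom g b = b ∨ D.pointHom g a = b ∧ D.pointHom g b = a →
      (g : G) * t = t * g := by
    intro g hg
    rw [← mul_inv_eq_iff_eq_mul, et, D.pointHom_spec g hab]
    rcases hg with ⟨h1, h2⟩ | ⟨h1, h2⟩ <;> rw [h1, h2]
    exact D.pairEl_comm _ _
  let P : Subgroup ↥N := M22.comap D.pointHom
  have hPt : ∀ g : P, (g.1 : G) ∈ Subgroup.centralizer ({t} : Set G) := fun g =>
    Subgroup.mem_centralizer_singleton_iff.2 (hmove g.1 (Or.inl ⟨g.2.1.2, g.2.2⟩))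
  let W : ↥P →* ℤˣ := V.comp
    { toFun := fun g => ⟨(g.1 : G), hPt g⟩, map_one' := rfl, map_mul' := fun _ _ => rfl }
  have hPW : ∀ g : P, W g = 1 := by
    have hsimple : IsSimpleGroup ↥M22 := isSimpleGroup_m22 hab
    let f : ↥P →* ↥M22 := D.pointHom.subgroupComap M22
    have hf : Function.Surjective f := by
      rintro ⟨π, hπ⟩
      obtain ⟨g, hg⟩ := D.exists_pointHom hπ.1.1
      exact ⟨⟨g, show D.pointHom g ∈ M22 by rw [hg]; exact hπ⟩, Subtype.ext hg⟩
    have hperf : commutator ↥M22 = ⊤ := by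
      refine ((inferInstance : (commutator ↥M22).Normal).eq_bot_or_eq_top).resolve_left fun h => ?_
      haveI hcomm : IsMulCommutative ↥M22 := (commutator_eq_bot_iff ↥M22).1 h
      letI : CommGroup ↥M22 := { (inferInstance : Group ↥M22) with mul_comm := mul_comm' }
      have hp := IsSimpleGroup.prime_card (α := ↥M22)
      rw [natCard_m22 hab] at hp
      exact absurd hp (by norm_num)
    intro g
    obtain ⟨k, hk, e⟩ : f g ∈ (commutator ↥P).map f := by
      rw [commutator_def, Subgroup.map_commutator, Subgroup.map_top_of_surjective f hf, ← commutator_def, hperf]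
      trivial
    have hker : W (k⁻¹ * g) = 1 := by
      have h1 : D.pointHom ((k⁻¹ * g : P) : N) = 1 := by
        have := congrArg Subtype.val (show f (k⁻¹ * g) = 1 by rw [map_mul, map_inv, e, inv_mul_cancel])
        exact this
      have hA' : (((k⁻¹ * g : P) : N) : G) ∈ A := by
        have := SetLike.ext_iff.1 D.mathieuHom_ker ((k⁻¹ * g : P) : N)
        rw [MonoidHom.mem_ker, Subgroup.mem_subgroupOf] at this
        exact this.1 (Subtype.ext h1)
      exact F.tra_cent (g := ⟨_, hPt (k⁻¹ * g)⟩) (F.mem_cent (D.comm hA' htA) (D.comm hA' huA))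
    rw [← mul_inv_cancel_left k g, map_mul, hker, mul_one]
    exact Abelianization.commutator_subset_ker W hk
  have hfixed : ∀ (g : N) (hg : (g : G) ∈ Subgroup.centralizer ({t} : Set G)),
      D.pointHom g a = a → D.pointHom g b = b → V ⟨g, hg⟩ = 1 := fun g hg h1 h2 =>
    hPW ⟨g, ⟨D.pointHom_mem g, h1⟩, h2⟩
  -- r interchanges them
  let rN : N := ⟨r, hQA hr⟩
  have hrsw : D.pointHom rN a = b ∧ D.pointHom rN b = a := by
    have h : (r : G) * t * (r : G)⁻¹ = t := mul_inv_eq_iff_eq_mul.2 (Subgroup.mem_centralizer_singleton_iff.1 r.2)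
    replace h : (rN : G) * D.pairEl a b * (rN : G)⁻¹ = D.pairEl a b :=
      (congrArg (fun x : G => (r : G) * x * (r : G)⁻¹) et.symm).trans (h.trans et)
    rw [D.pointHom_spec rN hab] at h
    rcases D.pairEl_inj ((D.pointHom rN).injective.ne hab) hab h with ⟨h1, h2⟩ | h'
    · exfalso
      have := hfixed rN r.2 h1 h2
      rw [show V ⟨(rN : G), r.2⟩ = V r from rfl, hVr] at this
      exact absurd this (by decide)
    · exact h'
  obtain ⟨π, hπ, hπe⟩ := Golay.exists_map_of_le_five (n := 3) (by norm_num)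
    (three hab hac hbc)
    (three hab.symm hbc hac)
  have e0 : π a = b := hπe 0
  have e1 : π b = a := hπe 1
  have e2 : π c = c := hπe 2
  obtain ⟨g0, hg0⟩ := D.exists_pointHom hπ
  have hg0t : (g0 : G) ∈ Subgroup.centralizer ({t} : Set G) := Subgroup.mem_centralizer_singleton_iff.2
    (hmove g0 (Or.inr ⟨by rw [hg0]; exact e0, by rw [hg0]; exact e1⟩))
  have hg0u : (g0 : G) * u * (g0 : G)⁻¹ = t * u := by
    rw [eu, D.pointHom_spec g0 hac, hg0, e0, e2, ← etu, eu]
  have hg0V : V ⟨g0, hg0t⟩ = -1 := by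
    have hmem : ((rN⁻¹ * g0 : N) : G) ∈ Subgroup.centralizer ({t} : Set G) := mul_mem (inv_mem r.2) hg0t
    have h := hfixed (rN⁻¹ * g0) hmem
      (by rw [map_mul, map_inv, Equiv.Perm.mul_apply, hg0, e0, Equiv.Perm.inv_eq_iff_eq, hrsw.1])
      (by rw [map_mul, map_inv, Equiv.Perm.mul_apply, hg0, e1, Equiv.Perm.inv_eq_iff_eq, hrsw.2])
    rw [show (⟨_, hmem⟩ : ↥(Subgroup.centralizer ({t} : Set G))) = r⁻¹ * ⟨g0, hg0t⟩ from Subtype.ext rfl, map_mul,
      map_inv, hVr] at h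
    exact (inv_mul_eq_one.1 h).symm
  have hno : ∀ g ∈ V.ker, (g : G) * u * (g : G)⁻¹ ≠ t * u := by
    intro g hg e
    have hc : ((⟨g0, hg0t⟩ : ↥(Subgroup.centralizer ({t} : Set G)))⁻¹ * g : G) ∈
        Subgroup.centralizer (F.E : Set G) := by
      refine F.mem_cent ?_ ?_
      · exact Subgroup.mem_centralizer_singleton_iff.1 (mul_mem (inv_mem hg0t) g.2)
      · refine mul_inv_eq_iff_eq_mul.1 ?_
        calc (g0 : G)⁻¹ * g * u * ((g0 : G)⁻¹ * g)⁻¹ = (g0 : G)⁻¹ * ((g : G) * u * (g : G)⁻¹) * g0 := by group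
          _ = (g0 : G)⁻¹ * ((g0 : G) * u * (g0 : G)⁻¹) * g0 := by rw [e, hg0u]
          _ = u := by group
    have h := F.tra_cent (g := (⟨g0, hg0t⟩ : ↥(Subgroup.centralizer ({t} : Set G)))⁻¹ * g) hc
    rw [show F.tra = V from rfl, map_mul, map_inv, hg0V, MonoidHom.mem_ker.1 hg] at h
    exact absurd h (by decide)
  refine ⟨hno, ?_⟩
  obtain ⟨c', hc'⟩ : ∃ c', c' ∉ ({a, b, c} : Finset GolayPt) := by
    by_contra! h
    have := Finset.card_le_card (fun x (_ : x ∈ (Finset.univ : Finset GolayPt)) => h x)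
    rw [Finset.card_univ, Finset.card_eq_three.2 ⟨a, b, c, hab, hac, hbc, rfl⟩] at this
    exact absurd this (by decide)
  simp only [Finset.mem_insert, Finset.mem_singleton, not_or] at hc'
  obtain ⟨hca, hcb, hcc⟩ := hc'
  obtain ⟨ρ, hρ, hρe⟩ := Golay.exists_map_of_le_five (n := 3) (by norm_num)
    (three hab hac hbc)
    (three hab (Ne.symm hca) (Ne.symm hcb))
  obtain ⟨g1, hg1⟩ := D.exists_pointHom hρ
  have f0 : D.pointHom g1 a = a := by rw [hg1]; exact hρe 0
  have f1 : D.pointHom g1 b = b := by rw [hg1]; exact hρe 1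
  have f2 : D.pointHom g1 c = c' := by rw [hg1]; exact hρe 2
  have hg1t : (g1 : G) ∈ Subgroup.centralizer ({t} : Set G) :=
    Subgroup.mem_centralizer_singleton_iff.2 (hmove g1 (Or.inl ⟨f0, f1⟩))
  have hg1u : (g1 : G) * u * (g1 : G)⁻¹ = D.pairEl a c' := by rw [eu, D.pointHom_spec g1 hac, f0, f2]
  refine ⟨⟨g1, hg1t⟩, hfixed g1 hg1t f0 f1, ?_⟩
  show Commute ((g1 : G) * u * (g1 : G)⁻¹) u ∧ _
  rw [hg1u]
  refine ⟨D.comm (D.pairEl_mem _ _) huA, fun e => ?_, fun e => ?_⟩
  · rcases D.pairEl_inj (Ne.symm hca) hac (e.trans eu) with ⟨-, h⟩ | ⟨h, -⟩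
    exacts [hcc h, hac h]
  · rcases D.pairEl_inj (Ne.symm hca) hbc (e.trans etu) with ⟨h, -⟩ | ⟨h, -⟩
    exacts [hab h, hac h]

end Four

end Cfsg.Agent.U62Fischer
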