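/-
The centraliser of a small involution in a group of large Fischer type.

* `Four.cent_structure` : for the involution over the vector of 15;
* `exists_four_conj` : every non-central involution of Q not conjugate to z is conjugate to one of these.
-/
import Cfsg.Agent.Lib.U62Fischer.Half
import Cfsg.Agent.Lib.U62Fischer.Fi22Cent

set_option autoImplicit false
set_option maxRecDepth 100000

namespace Cfsg.Agent.U62Fischer

open Cfsg.Agent.LargeFischer LargeExtraspecial

universe u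

variable {G : Type u} [Group G] [Finite G] {z : G} {Q : Subgroup (Subgroup.centralizer ({z} : Set G))}
  [Q.Normal] [hE : Fact (Cfsg.IsExtraspecial 2 Q)] {S : Setting z Q} {t u : G}

/-- t inside its centraliser. -/
def selfC (t : G) : ↥(Subgroup.centralizer ({t} : Set G)) := ⟨t, Subgroup.mem_centralizer_singleton_iff.2 rfl⟩

theorem Four.cent_structure (F : Four S t u) [hn : (Subgroup.zpowers (selfC t)).Normal] :
    ∃ Y0 : Subgroup ↥(Subgroup.centralizer ({t} : Set G)),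
      Cfsg.generalizedFittingSubgroup ↥(Subgroup.centralizer ({t} : Set G)) = Y0 ∧ Cfsg.IsQuasisimple ↥Y0 ∧
      Y0.index = 2 ∧ selfC t ∈ Y0 ∧
      Nonempty (↥(Subgroup.centralizer ({t} : Set G)) ⧸ Subgroup.zpowers (selfC t) ≃*
        MulAut Cfsg.Spor.Fi22) := by
  classical
  obtain ⟨Y0, hidx, hle, hno, g, hg, hc, hne1, hne2⟩ := F.exists_half
  obtain ⟨e⟩ := F.exists_quot
  set uY : ↥(Subgroup.centralizer ({t} : Set G)) := ⟨u, Subgroup.mem_centralizer_singleton_iff.2 F.tu_comm.symm⟩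
  have hmem : ∀ g : ↥(Subgroup.centralizer ({uY} : Set _)),
      ((g : ↥(Subgroup.centralizer ({t} : Set G))) : G) ∈ Subgroup.centralizer (F.E : Set G) := fun g =>
    F.mem_cent (Subgroup.mem_centralizer_singleton_iff.1 g.1.2)
      (congrArg Subtype.val (Subgroup.mem_centralizer_singleton_iff.1 g.2))
  let ι : ↥(Subgroup.centralizer ({uY} : Set _)) ≃* ↥(Subgroup.centralizer (F.E : Set G)) :=
    { toFun := fun g => ⟨_, hmem g⟩
      invFun := fun g => ⟨⟨g, F.cent_le g.2⟩, Subgroup.mem_centralizer_singleton_iff.2 (Subtype.ext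
        (Subgroup.mem_centralizer_iff.1 g.2 u (F.mem_E.2 (Or.inr (Or.inr (Or.inl rfl))))).symm)⟩
      left_inv := fun g => rfl
      right_inv := fun g => rfl
      map_mul' := fun a b => rfl }
  let ψ : ↥(Subgroup.centralizer ({uY} : Set _)) →* Cfsg.PSU 6 U62Rec.K 2 :=
    e.toMonoidHom.comp ((QuotientGroup.mk' F.EC).comp ι.toMonoidHom)
  have hker : ∀ g, ψ g = 1 ↔ ((g : ↥(Subgroup.centralizer ({t} : Set G))) = 1 ∨
      (g : ↥(Subgroup.centralizer ({t} : Set G))) = selfC t ∨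
      (g : ↥(Subgroup.centralizer ({t} : Set G))) = uY ∨
      (g : ↥(Subgroup.centralizer ({t} : Set G))) = selfC t * uY) := fun g => by
    show e (QuotientGroup.mk' F.EC (ι g)) = 1 ↔ _
    rw [map_eq_one_iff e e.injective, ← MonoidHom.mem_ker, QuotientGroup.ker_mk']
    show ((g : ↥(Subgroup.centralizer ({t} : Set G))) : G) ∈ F.E ↔ _
    rw [F.mem_E]
    refine ⟨?_, ?_⟩
    · rintro (h | h | h | h)
      exacts [Or.inl (Subtype.ext h), Or.inr (Or.inl (Subtype.ext h)), Or.inr (Or.inr (Or.inl (Subtype.ext h))),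
        Or.inr (Or.inr (Or.inr (Subtype.ext h)))]
    · rintro (h | h | h | h) <;> rw [h]
      exacts [Or.inl rfl, Or.inr (Or.inl rfl), Or.inr (Or.inr (Or.inl rfl)), Or.inr (Or.inr (Or.inr rfl))]
  have ht2 : selfC t * selfC t = 1 := Subtype.ext F.t_sq
  obtain ⟨h1, h2, h3, h4⟩ := fi22_main (selfC t) uY
    (Subgroup.mem_center_iff.2 fun k => Subtype.ext (Subgroup.mem_centralizer_singleton_iff.1 k.2)) ht2
    (fun h => F.t_ne (congrArg Subtype.val h)) (Subtype.ext F.u_sq)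
    (fun h => by
      rcases mem_zpowers_two' ht2 h with e | e
      exacts [F.u_ne (congrArg Subtype.val e), F.t_ne_u (congrArg Subtype.val e).symm])
    Y0 hidx (fun g hg => hle g (hmem ⟨g, hg⟩)) ((Components.isQuasisimple_congr ι).2 F.quasisimple)
    U62Rec.K U62Rec.cardK ψ (e.surjective.comp ((QuotientGroup.mk'_surjective _).comp ι.surjective)) hker
    (fun g hg h => hno g hg (congrArg Subtype.val h))
    ⟨g, hg, Subtype.ext hc.eq, fun h => hne1 (congrArg Subtype.val h), fun h => hne2 (congrArg Subtype.val h)⟩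
  exact ⟨Y0, h1, h2, hidx, h3, h4⟩

omit hE in
theorem exists_four_conj (hF : Cfsg.IsOfLargeFischerTypeAt z Q) [Fact (Cfsg.IsExtraspecial 2 Q)] (S : Setting z Q)
    {t : G} (ht : t ∈ QG Q) (ht2 : t * t = 1) (ht1 : t ≠ 1) (htz : ¬ IsConj z t) :
    ∃ g u : G, Four S (g * t * g⁻¹) u := by
  classical
  have D := data_of_type hF
  obtain ⟨x, hx, hv⟩ := S.C.M.surj (vec Q t)
  have hv0 : vec Q t ≠ 0 := fun h => by
    rcases vec_eq_zero D ht h with e | e
    exacts [ht1 e, htz (e ▸ IsConj.refl z)]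
  have hx0 : x ≠ 0 := fun h => hv0 (by rw [← hv, h, S.C.M.zero])
  have hq : qn x = 0 := cast_inj_two (qn_lt _) (by norm_num)
    (by rw [← S.C.M.q_e x hx, hv, (qf_eq_zero ht).2 ht2, Nat.cast_zero])
  have hq0 : OutForm.qf Q (vec Q t) = 0 := (qf_eq_zero ht).2 ht2
  obtain ⟨d, rfl⟩ := exists_coe ht
  rw [vec_coe] at hv hv0 hq0
  have hst := S.stab_card x hx hx0 hq
  rw [hv] at hst
  have hs : inSmall 0 x = true := by
    cases h : inSmall 0 x
    · exfalso
      rw [h, if_neg (by decide)] at hst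
      obtain ⟨g, ⟨hgC, hgQ⟩, hgz⟩ := hF.1.2.2.2.2
      obtain ⟨hw, hqw, hwc, -⟩ := central_facts hF rfl hgz hgC hgQ _ _ rfl rfl
      obtain ⟨γ, ⟨c, rfl⟩, hγ⟩ := (stab_type hF).2 _ _ hw hqw hv0 hq0 (hwc.trans hst.symm)
      obtain ⟨k, hk⟩ := exists_conj_lift (x := ⟨_, hgQ⟩) (y := d) hv0 hγ
      refine htz ?_
      rw [← hk]
      exact (isConj_iff.2 ⟨g, rfl⟩ : IsConj z (g * z * g⁻¹)).trans (isConj_iff.2 ⟨(k : G), rfl⟩)
    · rfl
  rw [hs, if_pos rfl] at hst
  obtain ⟨γ, ⟨c, rfl⟩, hγ⟩ := (stab_type hF).2 (OutForm.pr d) (S.C.M.e 15) hv0 hq0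
    (fun h => absurd (S.C.M.inj 15 (by norm_num) 0 (by norm_num) (h.trans S.C.M.zero.symm)) (by norm_num))
    (by rw [S.C.M.q_e 15 (by norm_num), duals.2.2.1, Nat.cast_zero])
    (hst.trans (stab15_card hF S).symm)
  obtain ⟨q, hq'⟩ := OutForm.pr_surjective (S.C.M.e 15)
  obtain ⟨k, hk⟩ := exists_conj_lift (x := d) (y := q)
    (fun h => absurd (S.C.M.inj 15 (by norm_num) 0 (by norm_num) ((hq'.symm.trans h).trans S.C.M.zero.symm))
      (by norm_num))
    (hγ.trans hq'.symm)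
  obtain ⟨u, hu, eu⟩ := vec_surj (Q := Q) (S.C.M.e 5)
  have he : (k : G) * ((d : Subgroup.centralizer ({z} : Set G)) : G) * (k : G)⁻¹ =
      ((q : Subgroup.centralizer ({z} : Set G)) : G) := congrArg Subtype.val hk
  refine ⟨(k : G), u, hF, ?_, hu, ?_, eu⟩
  · rw [he]; exact ⟨q, q.2, rfl⟩
  · rw [he, vec_coe, hq']

end Cfsg.Agent.U62Fischer
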